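import Cfsg.Agent.Lib.OddBase.QuasiPrimitive
import Mathlib.Algebra.Group.Subgroup.Pointwise

/-!
A group of odd order acting completely reducibly on a finite module has two vectors whose common stabiliser is the
kernel of the action.
-/

set_option autoImplicit false
set_option linter.unusedSectionVars false
set_option linter.style.haveILetI false

namespace Cfsg.Lib.OddBase

open MulAction
open scoped Pointwise

universe u v

section Defs

variable {A : Type u} {V : Type v} [Group A] [AddCommGroup V] [DistribMulAction A V]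

/-- Complete reducibility. -/
def CompletelyReducible (A : Type u) (V : Type v) [Group A] [AddCommGroup V] [DistribMulAction A V] : Prop :=
  ∀ U : AddSubgroup V, (∀ a : A, ∀ v ∈ U, a • v ∈ U) →
    ∃ W : AddSubgroup V, (∀ a : A, ∀ w ∈ W, a • w ∈ W) ∧ U ⊓ W = ⊥ ∧ U ⊔ W = ⊤

/-- No proper non-zero invariant subgroup. -/
def Irreducible' (A : Type u) (V : Type v) [Group A] [AddCommGroup V] [DistribMulAction A V] : Prop :=
  ∀ U : AddSubgroup V, (∀ a : A, ∀ v ∈ U, a • v ∈ U) → U = ⊥ ∨ U = ⊤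

/-- The action on an invariant subgroup. -/
abbrev subAct (U : AddSubgroup V) (hU : ∀ a : A, ∀ v ∈ U, a • v ∈ U) : DistribMulAction A U where
  smul a v := ⟨a • (v : V), hU a v v.2⟩
  one_smul v := Subtype.ext (one_smul A (v : V))
  mul_smul a b v := Subtype.ext (mul_smul a b (v : V))
  smul_zero a := Subtype.ext (smul_zero a)
  smul_add a v w := Subtype.ext (smul_add a (v : V) (w : V))

/-- The permutation group induced on the module, acting distributively. -/
abbrev rangeAct (A : Type u) (V : Type v) [Group A] [AddCommGroup V] [DistribMulAction A V] :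
    DistribMulAction (MulAction.toPermHom A V).range V :=
  { (inferInstance : MulAction (MulAction.toPermHom A V).range V) with
    smul_zero := by rintro ⟨_, a, rfl⟩; exact smul_zero a
    smul_add := by rintro ⟨_, a, rfl⟩ x y; exact smul_add a x y }

/-- The vectors fixed by all elements of a subgroup. -/
def fixAdd (V : Type v) [AddCommGroup V] [DistribMulAction A V] (B : Subgroup A) : AddSubgroup V where
  carrier := {w | ∀ b ∈ B, b • w = w}
  add_mem' := fun ha hb c hc => by rw [smul_add, ha c hc, hb c hc]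
  zero_mem' := fun c _ => smul_zero c
  neg_mem' := fun ha c hc => by rw [smul_neg, ha c hc]

theorem smul_fixAdd (B : Subgroup A) (s : A) :
    s • fixAdd V B = fixAdd V (B.map (MulAut.conj s).toMonoidHom) := by
  ext w
  rw [AddSubgroup.mem_pointwise_smul_iff_inv_smul_mem]
  constructor
  · rintro h _ ⟨b, hb, rfl⟩
    show (s * b * s⁻¹) • w = w
    rw [mul_smul, mul_smul, h b hb, smul_inv_smul]
  · intro h b hb
    have := h _ ⟨b, hb, rfl⟩
    change (s * b * s⁻¹) • w = w at this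
    rw [mul_smul, mul_smul] at this
    exact (eq_inv_smul_iff).2 this

theorem fixAdd_invariant {B : Subgroup A} [hB : B.Normal] : ∀ a : A, ∀ w ∈ fixAdd V B, a • w ∈ fixAdd V B := by
  intro a w hw b hb
  have := hw (a⁻¹ * b * a) (by simpa using hB.conj_mem b hb a⁻¹)
  rw [mul_smul, mul_smul, inv_smul_eq_iff] at this
  exact this

theorem nsmul_card_eq_zero_imp [Finite A] [Finite V] [FaithfulSMul A V] (hirr : Irreducible' A V)
    {B : Subgroup A} (hBn : B.Normal) (hBab : IsMulCommutative B) {w : V} (hw : Nat.card B • w = 0) :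
    w = 0 := by
  by_contra hne
  have h1 : addOrderOf w ≠ 1 := fun h => hne (AddMonoid.addOrderOf_eq_one_iff.1 h)
  obtain ⟨r, hr, k, hk⟩ := Nat.exists_prime_and_dvd h1
  haveI := Fact.mk hr
  have hrB : r ∣ Nat.card B := (Dvd.intro k hk.symm).trans (addOrderOf_dvd_of_nsmul_eq_zero hw)
  have hk0 : k • w ≠ 0 := fun h => by
    have h2 := addOrderOf_dvd_of_nsmul_eq_zero h
    rw [hk] at h2
    rcases Nat.eq_zero_or_pos k with rfl | hk0
    · rw [mul_zero] at hk; exact (addOrderOf_pos w).ne' hk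
    · have := Nat.le_of_dvd hk0 h2
      nlinarith [hr.two_le]
  have hkw : r • (k • w) = 0 := by rw [← mul_nsmul', ← hk, addOrderOf_nsmul_eq_zero]
  let K : AddSubgroup V := (nsmulAddMonoidHom r : V →+ V).ker
  have hK : K = ⊤ := by
    refine (hirr K fun a v hv => ?_).resolve_left fun h => hk0 ?_
    · show r • (a • v) = 0
      rw [smul_comm, show r • v = 0 from hv, smul_zero]
    · exact AddSubgroup.mem_bot.1 (h ▸ (show k • w ∈ K from hkw))
  have hdvd : r ∣ Nat.card V := by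
    have h2 : addOrderOf (k • w) = r := addOrderOf_eq_prime hkw hk0
    exact h2 ▸ addOrderOf_dvd_natCard _
  have hcm : ∀ a ∈ B, ∀ b ∈ B, Commute a b := fun a ha b hb =>
    congrArg Subtype.val (mul_comm' (⟨a, ha⟩ : B) ⟨b, hb⟩)
  let P : Subgroup A :=
    { carrier := {b | b ∈ B ∧ ∃ e, b ^ r ^ e = 1}
      one_mem' := ⟨one_mem _, 0, one_pow _⟩
      mul_mem' := by
        rintro a b ⟨ha, e, he⟩ ⟨hb, f, hf⟩
        refine ⟨mul_mem ha hb, e + f, ?_⟩
        rw [(hcm a ha b hb).mul_pow, pow_add, pow_mul, he, one_pow, one_mul, mul_comm, pow_mul, hf, one_pow]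
      inv_mem' := by
        rintro a ⟨ha, e, he⟩
        exact ⟨inv_mem ha, e, by rw [inv_pow, he, inv_one]⟩ }
  have hPn : P.Normal := ⟨fun b hb g => ⟨hBn.conj_mem b hb.1 g, by
    obtain ⟨e, he⟩ := hb.2
    exact ⟨e, by rw [conj_pow, he, mul_one, mul_inv_cancel]⟩⟩⟩
  obtain ⟨x, hx⟩ := exists_prime_orderOf_dvd_card' r hrB
  have hxP : (x : A) ∈ P := ⟨x.2, 1, by rw [pow_one, ← hx, ← Subgroup.orderOf_coe, pow_orderOf_eq_one]⟩
  have hP : IsPGroup r P := fun y => by
    obtain ⟨e, he⟩ := y.2.2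
    exact ⟨e, Subtype.ext (by simpa using he)⟩
  obtain ⟨b, hb, hb0⟩ := hP.exists_fixed_point_of_prime_dvd_card_of_fixed_point V hdvd
    (a := (0 : V)) (fun g => smul_zero g)
  have htop : fixAdd V P = ⊤ := (hirr _ fixAdd_invariant).resolve_left fun h => hb0
    (AddSubgroup.mem_bot.1 (h ▸ (show b ∈ fixAdd V P from fun c hc => hb ⟨c, hc⟩))).symm
  have h2 : (x : A) = 1 := eq_of_smul_eq_smul fun v : V => by
    rw [one_smul]
    exact (show v ∈ fixAdd V P from htop ▸ AddSubgroup.mem_top v) _ hxP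
  rw [← Subgroup.orderOf_coe, h2, orderOf_one] at hx
  exact hr.one_lt.ne hx

end Defs

section Aux

variable {A V : Type v} [Group A] [Finite A] [AddCommGroup V] [Finite V] [DistribMulAction A V]

/-- Induction hypothesis. -/
def PairBelow (n : ℕ) : Prop :=
  ∀ (A V : Type v) [Group A] [Finite A] [AddCommGroup V] [Finite V] [DistribMulAction A V],
    Nat.card V < n → Odd (Nat.card A) → CompletelyReducible A V →
      ∃ v w : V, ∀ a : A, a • v = v → a • w = w → ∀ x : V, a • x = x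

theorem imprimitive_pair [FaithfulSMul A V] (hb : PairBelow.{v} (Nat.card V)) (hodd : Odd (Nat.card A))
    (hirr : Irreducible' A V) {B : Subgroup A} (hBn : B.Normal) (hBab : IsMulCommutative B) {b₀ : A}
    (hb₀ : b₀ ∈ B) (hb₁ : b₀ ≠ 1) {u₀ : V} (hu₀ : u₀ ≠ 0) (hfix₀ : b₀ • u₀ = u₀) :
    ∃ v w : V, ∀ a : A, a • v = v → a • w = w → ∀ x : V, a • x = x := by
  classical
  have hcm : ∀ a ∈ B, ∀ b ∈ B, Commute a b := fun a ha b hb =>
    congrArg Subtype.val (mul_comm' (⟨a, ha⟩ : B) ⟨b, hb⟩)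
  obtain ⟨B₀, hB₀⟩ := Set.Finite.exists_maximal
    (s := {K : Subgroup A | b₀ ∈ K ∧ K ≤ B ∧ fixAdd V K ≠ ⊥}) (Set.toFinite _)
    ⟨Subgroup.zpowers b₀, Subgroup.mem_zpowers b₀, Subgroup.zpowers_le.2 hb₀, fun h => hu₀
      (AddSubgroup.mem_bot.1 (h ▸ (show u₀ ∈ fixAdd V (Subgroup.zpowers b₀) from fun c hc =>
        (Subgroup.zpowers_le (H := stabilizer A u₀)).2 hfix₀ hc)))⟩
  obtain ⟨hb₀B₀, hB₀B, hX₀⟩ := hB₀.prop
  set X₀ := fixAdd V B₀ with hX₀def
  haveI := Fintype.ofFinite B₀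
  let e₀ : V →+ V :=
    { toFun := fun w => ∑ b : B₀, (b : A) • w
      map_zero' := by simp
      map_add' := fun x y => by simp [smul_add, Finset.sum_add_distrib] }
  have hecomm : ∀ c ∈ B, ∀ w : V, c • e₀ w = e₀ (c • w) := fun c hc w => by
    show c • ∑ b : B₀, (b : A) • w = ∑ b : B₀, (b : A) • c • w
    rw [Finset.smul_sum]
    exact Finset.sum_congr rfl fun b _ => by rw [smul_smul, smul_smul, (hcm c hc b (hB₀B b.2)).eq]
  have he₀mem : ∀ w, e₀ w ∈ X₀ := fun w c hc => by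
    show c • ∑ b : B₀, (b : A) • w = ∑ b : B₀, (b : A) • w
    rw [Finset.smul_sum]
    simp only [smul_smul]
    exact Equiv.sum_comp (Equiv.mulLeft (⟨c, hc⟩ : B₀)) (fun b : B₀ => (b : A) • w)
  have he₀X : ∀ w ∈ X₀, e₀ w = Nat.card B₀ • w := fun w hw => by
    show ∑ b : B₀, (b : A) • w = _
    rw [Finset.sum_congr rfl (fun (b : B₀) _ => hw (b : A) b.2), Finset.sum_const, Finset.card_univ, Nat.card_eq_fintype_card]
  have hinj : ∀ w : V, Nat.card B₀ • w = 0 → w = 0 := fun w hw => by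
    refine nsmul_card_eq_zero_imp hirr hBn hBab ?_
    obtain ⟨m, hm⟩ := Subgroup.card_dvd_of_le hB₀B
    rw [hm, mul_nsmul, hw, smul_zero]
  have hkill : ∀ s : A, s • X₀ ≠ X₀ → ∀ y ∈ s • X₀, e₀ y = 0 := by
    intro s hs y hy
    by_contra hne
    set B₁ := B₀.map (MulAut.conj s).toMonoidHom with hB₁
    have hB₁B : B₁ ≤ B := by
      rintro _ ⟨b, hb, rfl⟩
      exact hBn.conj_mem b (hB₀B hb) s
    rw [hX₀def, smul_fixAdd, ← hB₁] at hy
    have hsup : e₀ y ∈ fixAdd V (B₀ ⊔ B₁) := by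
      intro c hc
      have hle : B₀ ⊔ B₁ ≤ stabilizer A (e₀ y) := sup_le (fun c hc => he₀mem y c hc)
        (fun c hc => by rw [mem_stabilizer_iff, hecomm c (hB₁B hc), hy c hc])
      exact hle hc
    have hle : B₀ ⊔ B₁ ≤ B₀ := hB₀.le_of_ge
      ⟨(le_sup_left : B₀ ≤ B₀ ⊔ B₁) hb₀B₀, sup_le hB₀B hB₁B, fun h => hne (AddSubgroup.mem_bot.1 (h ▸ hsup))⟩
      le_sup_left
    have hcard : Nat.card B₁ = Nat.card B₀ := Subgroup.card_map_of_injective (MulAut.conj s).injective
    have heq : B₁ = B₀ := Subgroup.eq_of_le_of_card_ge (le_sup_right.trans hle) hcard.ge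
    exact hs (by rw [hX₀def, smul_fixAdd, ← hB₁, heq])
  let Ψ := orbit A X₀
  have ht : ∀ Y : Ψ, ∃ t : A, t • X₀ = (Y : AddSubgroup V) := fun Y => Y.2
  choose t ht using ht
  haveI := Fintype.ofFinite Ψ
  have hmemY : ∀ (Y : Ψ) (x : V), x ∈ X₀ → t Y • x ∈ (Y : AddSubgroup V) := fun Y x hx => by
    rw [← ht Y]; exact AddSubgroup.smul_mem_pointwise_smul _ _ _ hx
  have hYmem : ∀ (Y : Ψ) (y : V), y ∈ (Y : AddSubgroup V) → (t Y)⁻¹ • y ∈ X₀ := fun Y y hy => by
    rwa [← ht Y, AddSubgroup.mem_pointwise_smul_iff_inv_smul_mem] at hy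
  have hindep : ∀ G : Ψ → V, (∀ Y : Ψ, G Y ∈ (Y : AddSubgroup V)) → ∑ Y : Ψ, G Y = 0 → ∀ Y, G Y = 0 := by
    intro G hG hsum Y
    have h := congrArg (fun w => e₀ ((t Y)⁻¹ • w)) hsum
    simp only [smul_zero, map_zero, Finset.smul_sum, map_sum] at h
    rw [Finset.sum_eq_single Y (fun Z _ hne => ?_) (fun h => absurd (Finset.mem_univ Y) h),
      he₀X _ (hYmem Y _ (hG Y))] at h
    · have := hinj _ h
      simpa using congrArg (t Y • ·) this
    · refine hkill ((t Y)⁻¹ * t Z) (fun hh => hne (Subtype.ext ?_)) _ ?_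
      · rw [mul_smul, inv_smul_eq_iff, ht, ht] at hh
        exact hh
      · rw [mul_smul, ht]
        exact AddSubgroup.smul_mem_pointwise_smul _ _ _ (hG Z)
  have hspan : (⨆ Y : Ψ, (Y : AddSubgroup V)) = ⊤ := by
    refine (hirr _ fun a w hw => ?_).resolve_left fun h => hX₀ ?_
    · refine AddSubgroup.iSup_induction _ (C := fun w => a • w ∈ ⨆ Y : Ψ, (Y : AddSubgroup V)) hw ?_ ?_ ?_
      · intro Y y hy
        refine AddSubgroup.mem_iSup_of_mem (a • Y) ?_
        rw [orbit.coe_smul]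
        exact AddSubgroup.smul_mem_pointwise_smul _ _ _ hy
      · simp only [smul_zero]; exact zero_mem _
      · intro x y hx hy; simp only [smul_add]; exact add_mem hx hy
    · exact eq_bot_iff.2 (h ▸ le_iSup (fun Y : Ψ => (Y : AddSubgroup V)) ⟨X₀, mem_orbit_self X₀⟩)
  -- the stabiliser of a component is irreducible on it
  let H := stabilizer A X₀
  have hHX : ∀ h : H, ∀ x ∈ X₀, h • x ∈ X₀ := fun h x hx => by
    have := AddSubgroup.smul_mem_pointwise_smul x (h : A) X₀ hx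
    rwa [mem_stabilizer_iff.1 h.2] at this
  letI := subAct X₀ hHX
  have hHirr : Irreducible' H X₀ := by
    intro Y hY
    by_cases hY0 : Y = ⊥
    · exact Or.inl hY0
    right
    set Y' := Y.map X₀.subtype with hY'
    have hW : (⨆ a : A, a • Y') = ⊤ := by
      refine (hirr _ fun a w hw => ?_).resolve_left fun h => hY0 ?_
      · refine AddSubgroup.iSup_induction _ (C := fun w => a • w ∈ ⨆ c : A, c • Y') hw ?_ ?_ ?_
        · intro c y hy
          refine AddSubgroup.mem_iSup_of_mem (a * c) ?_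
          rw [mul_smul]
          exact AddSubgroup.smul_mem_pointwise_smul _ _ _ hy
        · simp only [smul_zero]; exact zero_mem _
        · intro x y hx hy; simp only [smul_add]; exact add_mem hx hy
      · have h1 : (1 : A) • Y' ≤ ⊥ := h ▸ le_iSup (fun a : A => a • Y') 1
        rw [one_smul] at h1
        refine eq_bot_iff.2 fun y hy => AddSubgroup.mem_bot.2 (Subtype.ext ?_)
        exact AddSubgroup.mem_bot.1 (h1 ⟨y, hy, rfl⟩)
    have himg : ∀ w : V, e₀ w ∈ Y' := by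
      intro w
      have hw : w ∈ ⨆ a : A, a • Y' := hW ▸ AddSubgroup.mem_top w
      refine AddSubgroup.iSup_induction _ (C := fun w => e₀ w ∈ Y') hw ?_ ?_ ?_
      · intro c y hy
        rw [AddSubgroup.mem_pointwise_smul_iff_inv_smul_mem] at hy
        obtain ⟨y', hy', hyy⟩ := hy
        change (y' : V) = c⁻¹ • y at hyy
        have hyX : y ∈ c • X₀ := by
          rw [AddSubgroup.mem_pointwise_smul_iff_inv_smul_mem, ← hyy]; exact y'.2
        by_cases hc : c • X₀ = X₀
        · rw [hc] at hyX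
          rw [he₀X y hyX]
          refine nsmul_mem ?_ _
          refine ⟨(⟨c, hc⟩ : H) • y', hY _ y' hy', ?_⟩
          show c • (y' : V) = y
          rw [hyy, smul_inv_smul]
        · rw [hkill c hc y hyX]; exact zero_mem _
      · simp only [map_zero]; exact zero_mem _
      · intro x y hx hy; simp only [map_add]; exact add_mem hx hy
    -- multiplication by the order is bijective on the component
    have hbij : Function.Bijective (fun x : X₀ => Nat.card B₀ • x) := by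
      refine Finite.injective_iff_bijective.1 fun x y hxy => ?_
      refine sub_eq_zero.1 (Subtype.ext (hinj _ ?_))
      have : Nat.card B₀ • (x - y) = 0 := by rw [nsmul_sub, sub_eq_zero]; exact hxy
      exact congrArg Subtype.val this
    refine eq_top_iff.2 fun x _ => ?_
    obtain ⟨x', rfl⟩ := hbij.2 x
    obtain ⟨y', hy', hyy⟩ := himg (x' : V)
    rw [he₀X _ x'.2] at hyy
    have : Nat.card B₀ • x' = y' := Subtype.ext hyy.symm
    show Nat.card B₀ • x' ∈ Y
    rw [this]; exact hy'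
  have hX₀top : X₀ ≠ ⊤ := fun h => hb₁ (eq_of_smul_eq_smul fun v : V => by
    rw [one_smul]; exact (show v ∈ X₀ from h ▸ AddSubgroup.mem_top v) b₀ hb₀B₀)
  have hlt : Nat.card X₀ < Nat.card V := by
    obtain ⟨y, -, hy⟩ := SetLike.exists_of_lt (Ne.lt_top hX₀top)
    exact Finite.card_subtype_lt (p := (· ∈ X₀)) hy
  have hHodd : Odd (Nat.card H) := hodd.of_dvd_nat (Subgroup.card_subgroup_dvd_card _)
  obtain ⟨v₁, w₁, hvw⟩ := hb H X₀ hlt hHodd (fun U hU => by
    rcases hHirr U hU with rfl | rfl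
    · exact ⟨⊤, fun _ _ _ => trivial, by simp, by simp⟩
    · exact ⟨⊥, fun a w hw => by rw [AddSubgroup.mem_bot.1 hw, smul_zero]; exact zero_mem _,
        by simp, by simp⟩)
  -- two inequivalent regular pairs
  obtain ⟨p₁, p₂, hp₁, hp₂, hp⟩ : ∃ p₁ p₂ : X₀ × X₀,
      (∀ h : H, h • p₁.1 = p₁.1 → h • p₁.2 = p₁.2 → ∀ x : X₀, h • x = x) ∧
      (∀ h : H, h • p₂.1 = p₂.1 → h • p₂.2 = p₂.2 → ∀ x : X₀, h • x = x) ∧
      ∀ h : H, ¬(h • p₁.1 = p₂.1 ∧ h • p₁.2 = p₂.2) := by
    by_cases heq : v₁ = w₁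
    · subst heq
      haveI : Nontrivial X₀ := (AddSubgroup.nontrivial_iff_ne_bot X₀).2 hX₀
      obtain ⟨v₂, hv₂, hreg⟩ : ∃ v₂ : X₀, v₂ ≠ 0 ∧ ∀ h : H, h • v₂ = v₂ → ∀ x : X₀, h • x = x := by
        by_cases h0 : v₁ = 0
        · obtain ⟨v₂, hv₂⟩ := exists_ne (0 : X₀)
          exact ⟨v₂, hv₂, fun h _ => hvw h (by rw [h0, smul_zero]) (by rw [h0, smul_zero])⟩
        · exact ⟨v₁, h0, fun h hh => hvw h hh hh⟩
      exact ⟨(v₂, 0), (0, v₂), fun h h1 _ => hreg h h1, fun h _ h2 => hreg h h2,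
        fun h hh => hv₂ (by simpa using hh.2.symm)⟩
    · refine ⟨(v₁, w₁), (w₁, v₁), hvw, fun h h1 h2 => hvw h h2 h1, fun h ⟨h1, h2⟩ => heq ?_⟩
      have h3 : ∀ x : X₀, (h * h) • x = x := hvw _ (by rw [mul_smul, h1, h2]) (by rw [mul_smul, h2, h1])
      exact (smul_eq_of_smul_smul_eq hHodd (by rw [smul_smul]; exact h3 v₁)).symm.trans h1
  obtain ⟨D, hD⟩ := exists_regular_subset (Ω := Ψ) hodd
  let p : Ψ → X₀ × X₀ := fun Y => if Y ∈ D then p₁ else p₂
  let F₁ : Ψ → V := fun Y => t Y • ((p Y).1 : V)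
  let F₂ : Ψ → V := fun Y => t Y • ((p Y).2 : V)
  refine ⟨∑ Y : Ψ, F₁ Y, ∑ Y : Ψ, F₂ Y, fun a h1 h2 => ?_⟩
  have hcomp : ∀ F : Ψ → V, (∀ Y : Ψ, F Y ∈ (Y : AddSubgroup V)) → a • ∑ Y : Ψ, F Y = ∑ Y : Ψ, F Y →
      ∀ Y : Ψ, F (a • Y) = a • F Y := by
    intro F hF hfix Y
    have h0 := hindep (fun Z => a • F (a⁻¹ • Z) - F Z) (fun Z => sub_mem (by
        have := AddSubgroup.smul_mem_pointwise_smul _ a _ (hF (a⁻¹ • Z))
        rwa [orbit.coe_smul, smul_inv_smul] at this) (hF Z)) (by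
      rw [Finset.sum_sub_distrib, ← Finset.smul_sum,
        show ∑ Z : Ψ, F (a⁻¹ • Z) = ∑ Z : Ψ, F Z from Equiv.sum_comp (MulAction.toPerm a⁻¹) F]
      exact sub_eq_zero.2 hfix) (a • Y)
    simp only [inv_smul_smul, sub_eq_zero] at h0
    exact h0.symm
  have hc₁ := hcomp F₁ (fun Y => hmemY Y _ (p Y).1.2) h1
  have hc₂ := hcomp F₂ (fun Y => hmemY Y _ (p Y).2.2) h2
  have hh : ∀ Y : Ψ, (t (a • Y))⁻¹ * a * t Y ∈ H := fun Y => by
    rw [mem_stabilizer_iff, mul_smul, mul_smul, ht, inv_smul_eq_iff, ht, orbit.coe_smul]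
  have hmap : ∀ Y : Ψ, (⟨_, hh Y⟩ : H) • (p Y).1 = (p (a • Y)).1 ∧
      (⟨_, hh Y⟩ : H) • (p Y).2 = (p (a • Y)).2 := fun Y => by
    constructor <;> refine Subtype.ext ?_
    · show ((t (a • Y))⁻¹ * a * t Y) • ((p Y).1 : V) = _
      rw [mul_smul, mul_smul, inv_smul_eq_iff]
      exact (hc₁ Y).symm
    · show ((t (a • Y))⁻¹ * a * t Y) • ((p Y).2 : V) = _
      rw [mul_smul, mul_smul, inv_smul_eq_iff]
      exact (hc₂ Y).symm
  have hfix : ∀ Y : Ψ, a • Y = Y := by
    refine hD a fun Y => ?_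
    obtain ⟨h1, h2⟩ := hmap Y
    by_cases hY : Y ∈ D <;> by_cases hY' : a • Y ∈ D <;> simp only [hY, hY', iff_true, iff_false, not_true_eq_false]
    · simp only [p, if_pos hY, if_neg hY'] at h1 h2
      exact hp _ ⟨h1, h2⟩
    · simp only [p, if_neg hY, if_pos hY'] at h1 h2
      exact hp (⟨_, hh Y⟩ : H)⁻¹ ⟨inv_smul_eq_iff.2 h1.symm, inv_smul_eq_iff.2 h2.symm⟩
  intro x
  have hx : x ∈ ⨆ Y : Ψ, (Y : AddSubgroup V) := hspan ▸ AddSubgroup.mem_top x
  refine AddSubgroup.iSup_induction _ (C := fun x => a • x = x) hx ?_ ?_ ?_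
  · intro Y y hy
    obtain ⟨h1, h2⟩ := hmap Y
    have hst := hh Y
    simp only [hfix Y] at h1 h2 hst
    have h3 : (⟨_, hst⟩ : H) • (⟨_, hYmem Y y hy⟩ : X₀) = ⟨_, hYmem Y y hy⟩ := by
      by_cases hY : Y ∈ D
      · simp only [p, if_pos hY] at h1 h2; exact hp₁ _ h1 h2 _
      · simp only [p, if_neg hY] at h1 h2; exact hp₂ _ h1 h2 _
    have h4 : ((t Y)⁻¹ * a * t Y) • (t Y)⁻¹ • y = (t Y)⁻¹ • y := congrArg Subtype.val h3
    rwa [mul_smul, mul_smul, smul_inv_smul, smul_left_cancel_iff] at h4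
  · exact smul_zero a
  · intro x y hx hy; simp only [smul_add, hx, hy]

end Aux

theorem pair_aux : ∀ (n : ℕ) (A V : Type v) [Group A] [Finite A] [AddCommGroup V] [Finite V]
    [DistribMulAction A V], Nat.card V = n → Odd (Nat.card A) → CompletelyReducible A V →
      ∃ v w : V, ∀ a : A, a • v = v → a • w = w → ∀ x : V, a • x = x := by
  intro n
  induction n using Nat.strong_induction_on with
  | _ n ih =>
    intro A V _ _ _ _ _ hn hodd hcr
    subst hn
    have hb : PairBelow.{v} (Nat.card V) := fun A' V' _ _ _ _ _ hlt => ih _ hlt A' V' rfl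
    by_cases hirr : Irreducible' A V
    · rcases subsingleton_or_nontrivial V with hV | hV
      · exact ⟨0, 0, fun a _ _ x => Subsingleton.elim _ _⟩
      let f := MulAction.toPermHom A V
      letI : DistribMulAction f.range V := rangeAct A V
      have hodd' : Odd (Nat.card f.range) := hodd.of_dvd_nat (Subgroup.card_range_dvd f)
      have hirr' : Irreducible' f.range V := fun U hU => hirr U fun a w hw => hU ⟨f a, a, rfl⟩ w hw
      suffices h : ∃ v w : V, ∀ g : f.range, g • v = v → g • w = w → ∀ x : V, g • x = x by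
        obtain ⟨v, w, h⟩ := h
        exact ⟨v, w, fun a h1 h2 x => h ⟨f a, a, rfl⟩ h1 h2 x⟩
      by_cases hfpf : ∀ B : Subgroup f.range, B.Normal → IsMulCommutative B → FixedPointFree V B
      · obtain ⟨v, w, h⟩ := quasiprimitive hodd' hfpf
        exact ⟨v, w, fun g h1 h2 x => by rw [h g h1 h2, one_smul]⟩
      · simp only [FixedPointFree] at hfpf
        push Not at hfpf
        obtain ⟨B, hBn, hBab, b, hbB, w, hw, hbw, hb1⟩ := hfpf
        exact imprimitive_pair hb hodd' hirr' hBn hBab hbB hb1 hw hbw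
    · simp only [Irreducible'] at hirr
      push Not at hirr
      obtain ⟨U, hU, hUbot, hUtop⟩ := hirr
      obtain ⟨W, hW, hinf, hsup⟩ := hcr U hU
      have hWtop : W ≠ ⊤ := fun h => hUbot (by rwa [h, inf_top_eq] at hinf)
      have part : ∀ (X : AddSubgroup V) (hX : ∀ a : A, ∀ w ∈ X, a • w ∈ X), X ≠ ⊤ →
          ∃ v w : X, ∀ a : A, a • (v : V) = v → a • (w : V) = w → ∀ x ∈ X, a • x = x := by
        intro X hX hXtop
        letI := subAct X hX
        obtain ⟨y, -, hy⟩ := SetLike.exists_of_lt (Ne.lt_top hXtop)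
        have hcrX : CompletelyReducible A X := by
          intro K hK
          obtain ⟨L, hL, hKL, hKL'⟩ := hcr (K.map X.subtype) (by
            rintro a _ ⟨k, hk, rfl⟩
            exact ⟨a • k, hK a k hk, rfl⟩)
          refine ⟨L.addSubgroupOf X, fun a w hw => hL a _ hw, ?_, ?_⟩
          · refine eq_bot_iff.2 fun k hk => ?_
            have : (k : V) ∈ K.map X.subtype ⊓ L := ⟨⟨k, hk.1, rfl⟩, hk.2⟩
            rw [hKL, AddSubgroup.mem_bot] at this
            exact AddSubgroup.mem_bot.2 (Subtype.ext this)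
          · refine eq_top_iff.2 fun x _ => ?_
            obtain ⟨_, ⟨k, hk, rfl⟩, l, hl, hkl⟩ :=
              AddSubgroup.mem_sup.1 (hKL' ▸ AddSubgroup.mem_top (x : V))
            refine AddSubgroup.mem_sup.2 ⟨k, hk, x - k, ?_, by abel⟩
            show ((x - k : X) : V) ∈ L
            rw [AddSubgroup.coe_sub, ← hkl]
            simpa using hl
        obtain ⟨v, w, h⟩ := hb A X (Finite.card_subtype_lt (p := (· ∈ X)) hy) hodd hcrX
        exact ⟨v, w, fun a h1 h2 x hx =>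
          congrArg Subtype.val (h a (Subtype.ext h1) (Subtype.ext h2) ⟨x, hx⟩)⟩
      obtain ⟨v₁, w₁, h₁⟩ := part U hU hUtop
      obtain ⟨v₂, w₂, h₂⟩ := part W hW hWtop
      refine ⟨v₁ + v₂, w₁ + w₂, fun a hv hw x => ?_⟩
      have split : ∀ (u : U) (w : W), a • ((u : V) + w) = u + w → a • (u : V) = u ∧ a • (w : V) = w := by
        intro u w h
        rw [smul_add] at h
        have h1 : a • (u : V) - u = w - a • (w : V) := by
          rw [sub_eq_sub_iff_add_eq_add, h, add_comm]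
        have h2 : a • (u : V) - u ∈ U ⊓ W :=
          AddSubgroup.mem_inf.2 ⟨sub_mem (hU a u u.2) u.2, by rw [h1]; exact sub_mem w.2 (hW a w w.2)⟩
        rw [hinf, AddSubgroup.mem_bot, sub_eq_zero] at h2
        refine ⟨h2, ?_⟩
        rwa [h2, add_right_inj] at h
      obtain ⟨hv₁, hv₂⟩ := split v₁ v₂ hv
      obtain ⟨hw₁, hw₂⟩ := split w₁ w₂ hw
      obtain ⟨u, hu, w, hwW, rfl⟩ := AddSubgroup.mem_sup.1 (hsup ▸ AddSubgroup.mem_top x)
      rw [smul_add, h₁ a hv₁ hw₁ u hu, h₂ a hv₂ hw₂ w hwW]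

/-- Two vectors whose common stabiliser acts trivially. -/
theorem exists_pair {A : Type u} {V : Type v} [Group A] [Finite A] [AddCommGroup V] [Finite V]
    [DistribMulAction A V] [FaithfulSMul A V] (hodd : Odd (Nat.card A)) (hcr : CompletelyReducible A V) :
    ∃ v w : V, ∀ a : A, a • v = v → a • w = w → a = 1 := by
  let f := MulAction.toPermHom A V
  letI : DistribMulAction f.range V := rangeAct A V
  obtain ⟨v, w, h⟩ := pair_aux (Nat.card V) f.range V rfl (hodd.of_dvd_nat (Subgroup.card_range_dvd f))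
    (fun U hU => by
      obtain ⟨W, hW, h1, h2⟩ := hcr U fun a u hu => hU ⟨f a, a, rfl⟩ u hu
      refine ⟨W, fun g w hw => ?_, h1, h2⟩
      obtain ⟨a, ha⟩ := g.2
      show (g : Equiv.Perm V) w ∈ W
      rw [← ha]; exact hW a w hw)
  refine ⟨v, w, fun a h1 h2 => eq_of_smul_eq_smul fun x : V => ?_⟩
  rw [one_smul]
  exact h ⟨f a, a, rfl⟩ h1 h2 x

end Cfsg.Lib.OddBase
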