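import Cfsg.Agent.Lib.PGroup.ClassTwo
import Mathlib.GroupTheory.FiniteAbelian.Duality
import Mathlib.GroupTheory.SpecificGroups.Cyclic
import Mathlib.RingTheory.RootsOfUnity.EnoughRootsOfUnity
import Mathlib.Analysis.Complex.Polynomial.Basic
import Mathlib.RingTheory.RootsOfUnity.Complex
import Mathlib.RingTheory.RootsOfUnity.AlgebraicallyClosed

/-!
A group of odd order and class two all of whose abelian characteristic subgroups are cyclic has exponent dividing
the order of its centre.
-/

set_option autoImplicit false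
set_option linter.unusedSectionVars false
set_option linter.style.haveILetI false

namespace Cfsg.Lib.OddBase

open scoped commutatorElement
open Cfsg.Lib.PGroup

universe u

variable {N : Type u} [Group N]

/-- The image of a power map into the centre of the quotient, together with the centre. -/
def powImage (hcl : commutator N ≤ Subgroup.center N) (J : ℕ) (hJ : ∀ a b : N, ⁅a, b⁆ ^ J.choose 2 ∈ Subgroup.center N) :
    Subgroup N where
  carrier := {x | ∃ a, ∃ c ∈ Subgroup.center N, x = a ^ J * c}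
  one_mem' := ⟨1, 1, one_mem _, by simp⟩
  mul_mem' := by
    rintro _ _ ⟨a, c, hc, rfl⟩ ⟨b, d, hd, rfl⟩
    refine ⟨a * b, (⁅b, a⁆ ^ J.choose 2)⁻¹ * c * d, mul_mem (mul_mem (inv_mem (hJ b a)) hc) hd, ?_⟩
    rw [mul_pow_of_class_two hcl]
    have h := Subgroup.mem_center_iff.1 hc (b ^ J)
    calc a ^ J * c * (b ^ J * d) = a ^ J * (c * b ^ J) * d := by group
      _ = a ^ J * (b ^ J * c) * d := by rw [h]
      _ = _ := by group
  inv_mem' := by
    rintro _ ⟨a, c, hc, rfl⟩
    refine ⟨a⁻¹, c⁻¹, inv_mem hc, ?_⟩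
    rw [mul_inv_rev, inv_pow, (Subgroup.mem_center_iff.1 (inv_mem hc) _).symm]

instance powImage_char (hcl : commutator N ≤ Subgroup.center N) (J : ℕ)
    (hJ : ∀ a b : N, ⁅a, b⁆ ^ J.choose 2 ∈ Subgroup.center N) : (powImage hcl J hJ).Characteristic := by
  refine Subgroup.characteristic_iff_le_comap.2 fun φ x hx => ?_
  obtain ⟨a, c, hc, rfl⟩ := hx
  refine ⟨φ a, φ c, ?_, by simp⟩
  rw [Subgroup.mem_center_iff]
  intro g
  obtain ⟨g', rfl⟩ := φ.surjective g
  rw [← map_mul, Subgroup.mem_center_iff.1 hc g', map_mul]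

theorem commutator_mem_center (hcl : commutator N ≤ Subgroup.center N) (a b : N) : ⁅a, b⁆ ∈ Subgroup.center N :=
  hcl (Subgroup.commutator_mem_commutator (Subgroup.mem_top a) (Subgroup.mem_top b))

variable [Finite N]

/-- The exponent of the quotient by the centre is square-free. -/
theorem exponent_squarefree (hcl : commutator N ≤ Subgroup.center N)
    (hcyc : ∀ B : Subgroup N, B.Characteristic → IsMulCommutative B → IsCyclic B) {k : ℕ}
    (hk : ∀ x : N, x ^ k ∈ Subgroup.center N) (hmin : ∀ j : ℕ, 0 < j → (∀ x : N, x ^ j ∈ Subgroup.center N) → k ≤ j)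
    (hk0 : 0 < k) {r : ℕ} (hr : r.Prime) : ¬ r * r ∣ k := by
  rintro ⟨k', rfl⟩
  set J := r * k' with hJdef
  have hk'0 : 0 < k' := Nat.pos_of_ne_zero fun h => by rw [h, mul_zero] at hk0; exact lt_irrefl 0 hk0
  have hJ0 : 0 < J := Nat.mul_pos hr.pos hk'0
  obtain ⟨x, hx⟩ : ∃ x : N, x ^ J ∉ Subgroup.center N := by
    by_contra h
    push Not at h
    have := hmin J hJ0 h
    rw [hJdef] at this
    have h2 : r * k' * 1 < r * k' * r := Nat.mul_lt_mul_of_pos_left hr.one_lt hJ0
    nlinarith
  have hc := commutator_mem_center hcl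
  let L := powImage hcl J (fun a b => pow_mem (hc a b) _)
  have hLab : IsMulCommutative L := by
    refine ⟨⟨?_⟩⟩
    rintro ⟨_, a, c, hc1, rfl⟩ ⟨_, b, d, hd1, rfl⟩
    have h1 : ⁅a ^ J, b ^ J⁆ = 1 := by
      rw [commutatorElement_pow_left hcl, commutatorElement_pow_right hcl, ← pow_mul]
      have h2 : J * J = r * r * k' * k' := by rw [hJdef]; ring
      rw [h2, pow_mul, ← commutatorElement_pow_left hcl, commutatorElement_eq_one_iff_mul_comm.2
        (Subgroup.mem_center_iff.1 (hk a) b).symm, one_pow]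
    have hab : Commute (a ^ J) (b ^ J) := commutatorElement_eq_one_iff_mul_comm.1 h1
    have hcc : ∀ g, Commute g c := fun g => Subgroup.mem_center_iff.1 hc1 g
    have hdd : ∀ g, Commute g d := fun g => Subgroup.mem_center_iff.1 hd1 g
    exact Subtype.ext (((hab.mul_right (hdd _)).mul_left
      (((hcc _).symm).mul_right (hdd _))).eq)
  have hLc := hcyc L inferInstance hLab
  obtain ⟨g, hg⟩ := hLc.exists_generator
  obtain ⟨y, hy⟩ : ∃ y : N, ⁅x ^ J, y⁆ ≠ 1 := by
    by_contra h
    push Not at h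
    exact hx (Subgroup.mem_center_iff.2 fun y => (commutatorElement_eq_one_iff_mul_comm.1 (h y)).symm)
  have hxL : x ^ J ∈ L := ⟨x, 1, one_mem _, (mul_one _).symm⟩
  have hyL : y ^ J ∈ L := ⟨y, 1, one_mem _, (mul_one _).symm⟩
  obtain ⟨i, hi⟩ := Subgroup.mem_zpowers_iff.1 (hg ⟨x ^ J, hxL⟩)
  obtain ⟨j, hj⟩ := Subgroup.mem_zpowers_iff.1 (hg ⟨y ^ J, hyL⟩)
  have hi' : (g : N) ^ i = x ^ J := by rw [← Subgroup.coe_zpow, hi]
  have hj' : (g : N) ^ j = y ^ J := by rw [← Subgroup.coe_zpow, hj]
  obtain ⟨a, c, hc1, ha⟩ := g.2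
  have hgr : (g : N) ^ (r : ℤ) ∈ Subgroup.center N := by
    rw [zpow_natCast, ha, (show Commute (a ^ J) c from Subgroup.mem_center_iff.1 hc1 _).mul_pow, ← pow_mul]
    refine mul_mem ?_ (pow_mem hc1 _)
    have := hk a
    rwa [show r * r * k' = J * r by rw [hJdef]; ring] at this
  have hir : ¬ (r : ℤ) ∣ i := by
    rintro ⟨m, rfl⟩
    refine hx ?_
    rw [← hi', zpow_mul]
    exact zpow_mem hgr m
  obtain ⟨u, v, huv⟩ : IsCoprime (r : ℤ) i := (Nat.prime_iff_prime_int.1 hr).coprime_iff_not_dvd.2 hir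
  -- `y ^ J` is a power of `x ^ J` modulo the centre
  have hyx : y ^ J = ((g : N) ^ (r : ℤ)) ^ (u * j) * (x ^ J) ^ (v * j) := by
    rw [← hi', ← zpow_mul, ← zpow_mul, ← zpow_add, ← hj']
    congr 1
    linear_combination -j * huv
  have h1 : ⁅x, y ^ J⁆ = 1 := by
    rw [hyx, commutatorElement_eq_one_iff_mul_comm]
    exact (((Subgroup.mem_center_iff.1 (zpow_mem hgr _) x : _)) |> fun h =>
      (show Commute x (((g : N) ^ (r : ℤ)) ^ (u * j)) from h).mul_right
        (((Commute.refl x).pow_right J).zpow_right _)).eq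
  exact hy (by rw [commutatorElement_pow_left hcl, ← commutatorElement_pow_right hcl, h1])

/-- If the commutator pairing with a subgroup containing the centre has trivial left kernel modulo the centre,
the subgroup is everything. -/
theorem eq_top_of_centralizer_le_center (hcl : commutator N ≤ Subgroup.center N) [IsCyclic (Subgroup.center N)]
    {E : Subgroup N} (hCE : Subgroup.center N ≤ E) (hE : Subgroup.centralizer (E : Set N) ≤ Subgroup.center N) :
    E = ⊤ := by
  classical
  let Q := N ⧸ Subgroup.center N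
  letI : CommGroup Q :=
    { (inferInstance : Group Q) with
      mul_comm := by
        intro a b
        induction a using QuotientGroup.induction_on with
        | H a => induction b using QuotientGroup.induction_on with
          | H b =>
            rw [← QuotientGroup.mk_mul, ← QuotientGroup.mk_mul, QuotientGroup.eq]
            have h : (a * b)⁻¹ * (b * a) = ⁅b⁻¹, a⁻¹⁆ := by rw [commutatorElement_def]; group
            rw [h]
            exact commutator_mem_center hcl _ _ }
  haveI : NeZero (Nat.card (Subgroup.center N)) := ⟨Nat.card_pos.ne'⟩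
  have hζ := Complex.isPrimitiveRoot_exp (Nat.card (Subgroup.center N)) Nat.card_pos.ne'
  obtain ⟨ι, hι⟩ : ∃ ι : Subgroup.center N →* ℂˣ, Function.Injective ι := by
    haveI : IsCyclic (rootsOfUnity (Nat.card (Subgroup.center N)) ℂ) := inferInstance
    let e : Subgroup.center N ≃* rootsOfUnity (Nat.card (Subgroup.center N)) ℂ :=
      mulEquivOfCyclicCardEq (Complex.card_rootsOfUnity _).symm
    exact ⟨(rootsOfUnity _ ℂ).subtype.comp e.toMonoidHom, (rootsOfUnity _ ℂ).subtype_injective.comp e.injective⟩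
  let X : Subgroup Q := E.map (QuotientGroup.mk' _)
  -- the pairing
  let pr : N → N →* Subgroup.center N := fun x =>
    { toFun := fun y => ⟨⁅x, y⁆, commutator_mem_center hcl x y⟩
      map_one' := Subtype.ext (commutatorElement_one_right x)
      map_mul' := fun a b => Subtype.ext (commutatorElement_mul_right hcl x a b) }
  have hpr : ∀ x, Subgroup.center N ≤ (pr x).ker := fun x c hc =>
    Subtype.ext (commutatorElement_eq_one_iff_mul_comm.2 (Subgroup.mem_center_iff.1 hc x))
  let Φ₀ : N →* (Q →* ℂˣ) :=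
    { toFun := fun x => ι.comp (QuotientGroup.lift _ (pr x) (hpr x))
      map_one' := by
        refine MonoidHom.ext fun q => ?_
        induction q using QuotientGroup.induction_on with
        | H q =>
          have : pr 1 q = 1 := Subtype.ext (commutatorElement_one_left q)
          show ι (pr 1 q) = 1
          rw [this, map_one]
      map_mul' := fun a b => by
        refine MonoidHom.ext fun q => ?_
        induction q using QuotientGroup.induction_on with
        | H q =>
          have : pr (a * b) q = pr a q * pr b q := Subtype.ext (commutatorElement_mul_left hcl a b q)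
          show ι (pr (a * b) q) = ι (pr a q) * ι (pr b q)
          rw [this, map_mul] }
  let Ψ₀ : N →* (X →* ℂˣ) := (MonoidHom.compHom' X.subtype).comp Φ₀
  have hker : Ψ₀.ker = Subgroup.center N := by
    ext x
    constructor
    · intro hx
      refine hE (Subgroup.mem_centralizer_iff.2 fun y hy => ?_)
      have h := DFunLike.congr_fun hx (⟨(y : Q), y, hy, rfl⟩ : X)
      have h2 : ι (pr x y) = ι 1 := by rw [map_one]; exact h
      exact (commutatorElement_eq_one_iff_mul_comm.1 (congrArg Subtype.val (hι h2))).symm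
    · intro hx
      refine MonoidHom.ext fun q => ?_
      obtain ⟨_, y, hy, rfl⟩ := q
      show ι (pr x y) = 1
      have h2 : pr x y = 1 :=
        Subtype.ext (commutatorElement_eq_one_iff_mul_comm.2 (Subgroup.mem_center_iff.1 hx y).symm)
      rw [h2, map_one]
  haveI : NeZero (Monoid.exponent X) := ⟨Monoid.exponent_ne_zero_of_finite⟩
  haveI : NeZero ((Monoid.exponent X : ℕ) : ℂ) := ⟨Nat.cast_ne_zero.2 Monoid.exponent_ne_zero_of_finite⟩
  haveI : HasEnoughRootsOfUnity ℂ (Monoid.exponent X) := inferInstance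
  have hcard : Nat.card (X →* ℂˣ) = Nat.card X := CommGroup.card_monoidHom_of_hasEnoughRootsOfUnity X ℂ
  haveI : Finite (X →* ℂˣ) := Nat.finite_of_card_ne_zero (by rw [hcard]; exact Nat.card_pos.ne')
  have h1 : (Ψ₀.ker).index ∣ Nat.card (X →* ℂˣ) := by
    rw [Subgroup.index_ker]; exact Subgroup.card_subgroup_dvd_card _
  rw [hker, hcard] at h1
  have h2 : Nat.card Q ≤ Nat.card X := Nat.le_of_dvd Nat.card_pos h1
  have hX : X = ⊤ := Subgroup.eq_top_of_le_card _ h2
  refine eq_top_iff.2 fun x _ => ?_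
  obtain ⟨y, hy, hyx⟩ : (x : Q) ∈ X := hX ▸ Subgroup.mem_top _
  have := QuotientGroup.eq.1 hyx
  simpa using mul_mem hy (hCE this)

/-- The exponent of the group divides the order of its centre, if that power map is a homomorphism. -/
theorem pow_card_center_eq_one_of_choose (hcl : commutator N ≤ Subgroup.center N)
    (hcyc : ∀ B : Subgroup N, B.Characteristic → IsMulCommutative B → IsCyclic B)
    (hch : ∀ a b : N, ⁅b, a⁆ ^ (Nat.card (Subgroup.center N)).choose 2 = 1) (x : N) :
    x ^ Nat.card (Subgroup.center N) = 1 := by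
  classical
  set n := Nat.card (Subgroup.center N) with hn
  have hc := commutator_mem_center hcl
  haveI hCc : IsCyclic (Subgroup.center N) := hcyc _ inferInstance inferInstance
  have hcn : ∀ c ∈ Subgroup.center N, c ^ n = 1 := fun c hc' =>
    congrArg Subtype.val (pow_card_eq_one' (x := (⟨c, hc'⟩ : Subgroup.center N)))
  have hpc : ∀ y : N, y ^ n ∈ Subgroup.center N := fun y => Subgroup.mem_center_iff.2 fun g =>
    (commutatorElement_eq_one_iff_mul_comm.1 (by
      rw [commutatorElement_pow_left hcl, hcn _ (hc y g)] : ⁅y ^ n, g⁆ = 1)).symm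
  let φ : N →* N :=
    { toFun := fun y => y ^ n
      map_one' := one_pow n
      map_mul' := fun a b => by rw [mul_pow_of_class_two hcl, hch, mul_one] }
  let E := φ.ker
  have hEmem : ∀ {y : N}, y ∈ E ↔ y ^ n = 1 := Iff.rfl
  haveI hEchar : E.Characteristic := Subgroup.characteristic_iff_le_comap.2 fun f y hy => by
    show f y ^ n = 1
    rw [← map_pow, hEmem.1 hy, map_one]
  have hCE : Subgroup.center N ≤ E := fun c h => hcn c h
  by_contra hx
  have hEne : E ≠ ⊤ := fun h => hx (hEmem.1 (h ▸ Subgroup.mem_top x))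
  -- the image of `φ` is cyclic
  have hrc : IsCyclic φ.range := by
    have hle : φ.range ≤ Subgroup.center N := by rintro _ ⟨y, rfl⟩; exact hpc y
    exact isCyclic_of_injective (Subgroup.inclusion hle) (Subgroup.inclusion_injective hle)
  obtain ⟨⟨_, y₀, rfl⟩, hy₀⟩ := hrc.exists_generator
  have hgen : ∀ y : N, ∃ i : ℤ, ∃ e ∈ E, y = y₀ ^ i * e := fun y => by
    obtain ⟨i, hi⟩ := Subgroup.mem_zpowers_iff.1 (hy₀ ⟨φ y, y, rfl⟩)
    refine ⟨i, (y₀ ^ i)⁻¹ * y, ?_, (mul_inv_cancel_left _ _).symm⟩
    rw [MonoidHom.mem_ker, map_mul, map_inv, map_zpow]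
    have := congrArg Subtype.val hi
    simp only [Subgroup.coe_zpow] at this
    rw [this, inv_mul_cancel]
  let G1 := Subgroup.centralizer (E : Set N)
  haveI : G1.Characteristic := Subgroup.characteristic_iff_le_comap.2 fun f a ha =>
    Subgroup.mem_centralizer_iff.2 fun e he => by
      obtain ⟨e', rfl⟩ := f.surjective e
      have he' : e' ∈ E := by
        have h2 := hEmem.1 he
        rw [← map_pow, ← map_one f] at h2
        exact f.injective h2
      show f e' * f a = f a * f e'
      rw [← map_mul, Subgroup.mem_centralizer_iff.1 ha e' he', map_mul]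
  have hGab : IsMulCommutative G1 := by
    refine ⟨⟨fun a b => commutative_of_cyclic_center_quotient (φ.rangeRestrict.comp G1.subtype) ?_ a b⟩⟩
    intro a ha
    refine Subgroup.mem_center_iff.2 fun g => Subtype.ext ?_
    have haE : (a : N) ∈ E := congrArg Subtype.val ha
    exact (Subgroup.mem_centralizer_iff.1 g.2 (a : N) haE).symm
  haveI hG1 := hcyc G1 inferInstance hGab
  have hG1E : ∀ g ∈ G1, g ^ n = 1 → g ∈ Subgroup.center N := by
    intro g hg hgn
    have hCG : Subgroup.center N ≤ G1 := Subgroup.center_le_centralizer _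
    haveI := Fintype.ofFinite G1
    haveI := Fintype.ofFinite (Subgroup.center N)
    let T : Finset G1 := (Finset.univ : Finset (Subgroup.center N)).map
      ⟨Subgroup.inclusion hCG, Subgroup.inclusion_injective hCG⟩
    have hT : T = (Finset.univ.filter fun y : G1 => y ^ n = 1) := by
      refine Finset.eq_of_subset_of_card_le (fun y hy => ?_) ?_
      · obtain ⟨c, -, rfl⟩ := Finset.mem_map.1 hy
        exact Finset.mem_filter.2 ⟨Finset.mem_univ _, Subtype.ext (hcn c c.2)⟩
      · rw [Finset.card_map, Finset.card_univ, ← Nat.card_eq_fintype_card]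
        exact IsCyclic.card_pow_eq_one_le Nat.card_pos
    have hgT : (⟨g, hg⟩ : G1) ∈ T := by
      rw [hT]; exact Finset.mem_filter.2 ⟨Finset.mem_univ _, Subtype.ext hgn⟩
    obtain ⟨c, -, hc'⟩ := Finset.mem_map.1 hgT
    have := congrArg Subtype.val hc'
    exact (show (c : N) = g from this) ▸ c.2
  obtain ⟨g, hgG, hgC⟩ : ∃ g ∈ G1, g ∉ Subgroup.center N := by
    by_contra h
    push Not at h
    exact hEne (eq_top_of_centralizer_le_center hcl hCE h)
  -- an element of prime order modulo the centre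
  have hex : ∃ k : ℕ, 0 < k ∧ ∀ y : N, y ^ k ∈ Subgroup.center N := ⟨n, Nat.card_pos, hpc⟩
  obtain ⟨hk0, hk⟩ := Nat.find_spec hex
  set k := Nat.find hex
  have hsq : ∀ r : ℕ, r.Prime → ¬ r * r ∣ k := fun r hr =>
    exponent_squarefree hcl hcyc hk (fun j hj hjc => Nat.find_min' hex ⟨hj, hjc⟩) hk0 hr
  obtain ⟨r, hr, h, hhG, hhC, hhr⟩ : ∃ r : ℕ, r.Prime ∧ ∃ h ∈ G1, h ∉ Subgroup.center N ∧ h ^ r ∈ Subgroup.center N := by
    set q : N ⧸ Subgroup.center N := (g : N ⧸ Subgroup.center N) with hq
    have hq1 : orderOf q ≠ 1 := fun h => hgC ((QuotientGroup.eq_one_iff g).1 (orderOf_eq_one_iff.1 h))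
    obtain ⟨r, hr, m, hm⟩ := Nat.exists_prime_and_dvd hq1
    refine ⟨r, hr, g ^ m, pow_mem hgG m, fun h => ?_, ?_⟩
    · rw [← QuotientGroup.eq_one_iff, QuotientGroup.mk_pow, ← orderOf_dvd_iff_pow_eq_one, ← hq, hm] at h
      have hm0 : 0 < m := Nat.pos_of_ne_zero fun h0 => (orderOf_pos q).ne' (by rw [hm, h0, mul_zero])
      have := Nat.le_of_dvd hm0 h
      nlinarith [hr.two_le]
    · rw [← QuotientGroup.eq_one_iff, ← pow_mul, QuotientGroup.mk_pow, ← hq, mul_comm, ← hm, pow_orderOf_eq_one]
  obtain ⟨i, e, he, hie⟩ := hgen h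
  have hne : h ^ n ≠ 1 := fun hn1 => hhC (hG1E h hhG hn1)
  have hhy : ⁅h, y₀⁆ ≠ 1 := by
    intro h1
    refine hhC (Subgroup.mem_center_iff.2 fun y => ?_)
    obtain ⟨j, f, hf, rfl⟩ := hgen y
    have c1 : Commute (y₀ ^ j) h := ((show Commute h y₀ from commutatorElement_eq_one_iff_mul_comm.1 h1).zpow_right j).symm
    exact (c1.mul_left (Subgroup.mem_centralizer_iff.1 hhG f hf)).eq
  have hpow : ∀ m : ℤ, ⁅h, y₀⁆ ^ m = ⁅h, y₀ ^ m⁆ := fun m => by
    let f : N →* N :=
      { toFun := fun y => ⁅h, y⁆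
        map_one' := commutatorElement_one_right h
        map_mul' := commutatorElement_mul_right hcl h }
    exact (map_zpow f y₀ m).symm
  have hri : (r : ℤ) ∣ i := by
    have h1 : ⁅h, y₀⁆ ^ i = 1 := by
      rw [hpow, commutatorElement_eq_one_iff_mul_comm]
      have c1 : Commute h e := (Subgroup.mem_centralizer_iff.1 hhG e he).symm
      have c2 : Commute h (h * e⁻¹) := (Commute.refl h).mul_right c1.inv_right
      rwa [show y₀ ^ i = h * e⁻¹ from by rw [hie, mul_inv_cancel_right]]
    have h2 : orderOf ⁅h, y₀⁆ = r := by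
      haveI := Fact.mk hr
      refine orderOf_eq_prime ?_ hhy
      rw [← commutatorElement_pow_left hcl]
      exact commutatorElement_eq_one_iff_mul_comm.2 (Subgroup.mem_center_iff.1 hhr _).symm
    have := orderOf_dvd_iff_zpow_eq_one.2 h1
    rwa [h2] at this
  obtain ⟨i', rfl⟩ := hri
  -- the order of `φ y₀` divides `k`
  have hR : orderOf (φ y₀) ∣ k := orderOf_dvd_of_pow_eq_one (by
    show (y₀ ^ n) ^ k = 1
    rw [← pow_mul, mul_comm, pow_mul, hcn _ (hk y₀)])
  have hφh : φ h = (φ y₀) ^ ((r : ℤ) * i') := by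
    rw [hie, map_mul, map_zpow, MonoidHom.mem_ker.1 he, mul_one]
  have hord : orderOf (φ h) = r := by
    haveI := Fact.mk hr
    refine orderOf_eq_prime ?_ hne
    show (h ^ n) ^ r = 1
    rw [← pow_mul, mul_comm, pow_mul, hcn _ hhr]
  have hw : orderOf ((φ y₀) ^ (r : ℤ)) ∣ orderOf (φ y₀) := orderOf_dvd_of_pow_eq_one (by
    rw [zpow_natCast, ← pow_mul, mul_comm, pow_mul, pow_orderOf_eq_one, one_pow])
  have hdvd : r ∣ orderOf ((φ y₀) ^ r) := by
    have h1 : orderOf (φ h) ∣ orderOf ((φ y₀) ^ r) := by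
      rw [hφh, zpow_mul, zpow_natCast]
      exact orderOf_dvd_of_mem_zpowers ⟨i', rfl⟩
    rwa [hord] at h1
  have hrR : r ∣ orderOf (φ y₀) := hdvd.trans (by rwa [zpow_natCast] at hw)
  obtain ⟨R', hR'⟩ := hrR
  rw [orderOf_pow' _ hr.ne_zero, hR', Nat.gcd_mul_right_left, Nat.mul_div_cancel_left _ hr.pos] at hdvd
  exact hsq r hr ((Nat.mul_dvd_mul_left r hdvd).trans (hR' ▸ hR))

/-- The exponent of a group of odd order divides the order of its centre. -/
theorem pow_card_center_eq_one (hodd : Odd (Nat.card N)) (hcl : commutator N ≤ Subgroup.center N)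
    (hcyc : ∀ B : Subgroup N, B.Characteristic → IsMulCommutative B → IsCyclic B) (x : N) :
    x ^ Nat.card (Subgroup.center N) = 1 := by
  refine pow_card_center_eq_one_of_choose hcl hcyc ?_ x
  set n := Nat.card (Subgroup.center N) with hn
  have hc := commutator_mem_center hcl
  have hcn : ∀ c ∈ Subgroup.center N, c ^ n = 1 := fun c hc' =>
    congrArg Subtype.val (pow_card_eq_one' (x := (⟨c, hc'⟩ : Subgroup.center N)))
  have hnodd : Odd n := hodd.of_dvd_nat (Subgroup.card_subgroup_dvd_card _)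
  have hch : ∀ a b : N, ⁅b, a⁆ ^ n.choose 2 = 1 := fun a b => by
    obtain ⟨m, hm⟩ := hnodd
    have : n.choose 2 = n * m := by
      rw [Nat.choose_two_right, hm, Nat.add_sub_cancel]
      rw [← mul_assoc, mul_comm (2 * m + 1) 2, mul_assoc, Nat.mul_div_cancel_left _ two_pos]
    rw [this, pow_mul, hcn _ (hc b a), one_pow]
  exact hch

end Cfsg.Lib.OddBase
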