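import Mathlib.GroupTheory.PGroup
import Mathlib.GroupTheory.Exponent
import Mathlib.GroupTheory.SpecificGroups.Cyclic
import Mathlib.Algebra.Module.NatInt
import Mathlib.Tactic.Linarith

/-!
Common eigenvectors of an abelian group acting on an abelian group, relative to a fixed-point-free cyclic group.
-/

set_option autoImplicit false
set_option linter.unusedSectionVars false
set_option linter.style.haveILetI false

namespace Cfsg.Lib.OddBase

universe u v

variable {A : Type u} {V : Type v} [Group A] [AddCommGroup V] [DistribMulAction A V]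

/-- The elements `≠ 1` of the subgroup fix only zero. -/
def FixedPointFree (V : Type v) [AddCommGroup V] [DistribMulAction A V] (B : Subgroup A) : Prop :=
  ∀ b ∈ B, ∀ w : V, w ≠ 0 → b • w = w → b = 1

theorem FixedPointFree.eq_of_smul_eq {B : Subgroup A} (hB : FixedPointFree V B) {b b' : A} (hb : b ∈ B)
    (hb' : b' ∈ B) {w : V} (hw : w ≠ 0) (h : b • w = b' • w) : b = b' := by
  refine (inv_mul_eq_one.1 (hB _ (mul_mem (inv_mem hb') hb) w hw ?_)).symm
  rw [mul_smul, h, inv_smul_smul]

variable [Finite A] [Finite V]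

/-- The order of a fixed-point-free element is invertible on the module. -/
theorem nsmul_eq_zero_of_fpf {z : A} (hfpf : FixedPointFree V (Subgroup.zpowers z)) {w : V}
    (hw : orderOf z • w = 0) : w = 0 := by
  by_contra hne
  have h1 : addOrderOf w ≠ 1 := fun h => hne (AddMonoid.addOrderOf_eq_one_iff.1 h)
  obtain ⟨r, hr, k, hk⟩ := Nat.exists_prime_and_dvd h1
  haveI := Fact.mk hr
  have hrn : r ∣ orderOf z := (Dvd.intro k hk.symm).trans (addOrderOf_dvd_of_nsmul_eq_zero hw)
  let x := z ^ (orderOf z / r)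
  have hx : x ∈ Subgroup.zpowers z := pow_mem (Subgroup.mem_zpowers z) _
  have hxo : orderOf x = r := orderOf_pow_orderOf_div (orderOf_pos z).ne' hrn
  let T : SubMulAction (Subgroup.zpowers x) V :=
    ⟨{v | r • v = 0}, fun g v hv => by
      show r • ((g : A) • v) = 0
      rw [smul_comm, show r • v = 0 from hv, smul_zero]⟩
  have hk0 : k • w ≠ 0 := fun h => by
    have h2 := addOrderOf_dvd_of_nsmul_eq_zero h
    rw [hk] at h2
    rcases Nat.eq_zero_or_pos k with rfl | hk0
    · rw [mul_zero] at hk; exact (addOrderOf_pos w).ne' hk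
    · have := Nat.le_of_dvd hk0 h2
      nlinarith [hr.two_le]
  have hkw : r • (k • w) = 0 := by rw [← mul_nsmul', ← hk, addOrderOf_nsmul_eq_zero]
  let W : AddSubgroup V := (nsmulAddMonoidHom r : V →+ V).ker
  have hTW : Nat.card T = Nat.card W := Nat.card_congr (Equiv.refl _)
  have hdvd : r ∣ Nat.card T := by
    rw [hTW]
    have h2 : addOrderOf (⟨k • w, hkw⟩ : W) = r := by
      refine addOrderOf_eq_prime (Subtype.ext hkw) fun h => hk0 (congrArg Subtype.val h)
    exact h2 ▸ addOrderOf_dvd_natCard _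
  have hP : IsPGroup r (Subgroup.zpowers x) := IsPGroup.of_card (n := 1) (by
    rw [pow_one, Nat.card_zpowers, hxo])
  obtain ⟨⟨b, hb0⟩, hb, hne'⟩ := hP.exists_fixed_point_of_prime_dvd_card_of_fixed_point T hdvd
    (a := (⟨0, show r • (0 : V) = 0 from nsmul_zero r⟩ : T))
    (fun g => Subtype.ext (smul_zero (g : A)))
  have hbne : b ≠ 0 := fun h => hne' (Subtype.ext h.symm)
  have := hfpf x hx b hbne (congrArg Subtype.val (hb ⟨x, Subgroup.mem_zpowers x⟩))
  rw [this, orderOf_one] at hxo
  exact hr.one_lt.ne hxo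

/-- A common eigenvector, with eigenvalues among the powers of `z`. -/
theorem exists_eigenvector [Nontrivial V] {U : Subgroup A} (hU : IsMulCommutative U) {z : A} (hz : z ∈ U)
    (hfpf : FixedPointFree V (Subgroup.zpowers z)) (hexp : ∀ y ∈ U, y ^ orderOf z = 1) :
    ∃ v : V, v ≠ 0 ∧ ∀ y ∈ U, ∃ c ∈ Subgroup.zpowers z, y • v = c • v := by
  classical
  set n := orderOf z with hn
  have hn0 : 0 < n := orderOf_pos z
  have hcm : ∀ a ∈ U, ∀ b ∈ U, Commute a b := fun a ha b hb =>
    congrArg Subtype.val (mul_comm' (⟨a, ha⟩ : U) ⟨b, hb⟩)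
  suffices hmain : ∀ s : Finset U, ∃ v : V, v ≠ 0 ∧ ∀ y ∈ s, ∃ c ∈ Subgroup.zpowers z, (y : A) • v = c • v by
    haveI := Fintype.ofFinite U
    obtain ⟨v, hv, h⟩ := hmain Finset.univ
    exact ⟨v, hv, fun y hy => h ⟨y, hy⟩ (Finset.mem_univ _)⟩
  intro s
  induction s using Finset.induction with
  | empty =>
    obtain ⟨v, hv⟩ := exists_ne (0 : V)
    exact ⟨v, hv, by simp⟩
  | insert y s hys ih =>
    obtain ⟨v, hv, hs⟩ := ih
    let f : ℕ → ℕ → A := fun i j => ((z ^ i)⁻¹ * (y : A)) ^ j
    let S : ℕ → V := fun i => ∑ j ∈ Finset.range n, f i j • v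
    have hsum : ∑ i ∈ Finset.range n, S i = n • v := by
      rw [Finset.sum_comm, ← Finset.sum_singleton (fun _ => n • v) (0 : ℕ)]
      symm
      refine (Finset.sum_congr rfl fun j hj => ?_).trans (Finset.sum_subset (by simpa using hn0) ?_)
      · rw [Finset.mem_singleton] at hj
        subst hj
        simp [f]
      intro j hj hj0
      rw [Finset.mem_range] at hj
      rw [Finset.mem_singleton] at hj0
      set w := (y : A) ^ j • v with hw
      set g := (z ^ j)⁻¹ with hg
      have hf : ∀ i, f i j • v = g ^ i • w := fun i => by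
        have hc : Commute (z ^ i)⁻¹ (y : A) := ((hcm z hz _ y.2).pow_left i).inv_left
        show ((z ^ i)⁻¹ * (y : A)) ^ j • v = _
        rw [hc.mul_pow, mul_smul, hg, inv_pow, inv_pow, ← pow_mul, ← pow_mul, mul_comm i j]
      simp only [hf]
      by_contra h0
      have hgz : g ∈ Subgroup.zpowers z := inv_mem (pow_mem (Subgroup.mem_zpowers z) j)
      have hg1 : g ≠ 1 := fun h => by
        rw [hg, inv_eq_one] at h
        exact pow_ne_one_of_lt_orderOf hj0 hj h
      refine hg1 (hfpf g hgz _ h0 ?_)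
      rw [Finset.smul_sum]
      have hper : g ^ n • w = g ^ 0 • w := by
        rw [pow_zero, hg, inv_pow, ← pow_mul, mul_comm, pow_mul, hn, pow_orderOf_eq_one, one_pow, inv_one]
      have h1 : ∀ i, g • g ^ i • w = g ^ (i + 1) • w := fun i => by rw [smul_smul, ← pow_succ']
      simp only [h1]
      have h2 := Finset.sum_range_succ (fun i => g ^ i • w) n
      rw [Finset.sum_range_succ', hper] at h2
      exact add_right_cancel h2
    obtain ⟨i, -, hi⟩ : ∃ i ∈ Finset.range n, S i ≠ 0 := by
      by_contra h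
      push Not at h
      rw [Finset.sum_eq_zero h] at hsum
      exact hv (nsmul_eq_zero_of_fpf hfpf hsum.symm)
    refine ⟨S i, hi, fun a ha => ?_⟩
    rcases Finset.mem_insert.1 ha with rfl | ha
    · refine ⟨z ^ i, pow_mem (Subgroup.mem_zpowers z) i, ?_⟩
      rw [← inv_smul_eq_iff, smul_smul]
      show ((z ^ i)⁻¹ * (a : A)) • S i = S i
      simp only [S, Finset.smul_sum, smul_smul, f, ← pow_succ']
      have hper : ((z ^ i)⁻¹ * (a : A)) ^ n = 1 := hexp _ (mul_mem (inv_mem (pow_mem hz i)) a.2)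
      have h2 := Finset.sum_range_succ (fun j => ((z ^ i)⁻¹ * (a : A)) ^ j • v) n
      rw [Finset.sum_range_succ', hper] at h2
      simp only [pow_zero] at h2
      exact add_right_cancel h2
    · obtain ⟨c, hc, hac⟩ := hs a ha
      have hcU : c ∈ U := (Subgroup.zpowers_le.2 hz) hc
      refine ⟨c, hc, ?_⟩
      simp only [S, Finset.smul_sum]
      refine Finset.sum_congr rfl fun j _ => ?_
      have hfU : f i j ∈ U := pow_mem (mul_mem (inv_mem (pow_mem hz i)) y.2) j
      rw [smul_smul, (hcm _ a.2 _ hfU).eq, mul_smul, hac, ← mul_smul, ← (hcm _ hcU _ hfU).eq, mul_smul]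

/-- An abelian group acting fixed-point-freely on a non-trivial module is cyclic. -/
theorem isCyclic_of_fpf [Nontrivial V] {B : Subgroup A} (hB : IsMulCommutative B)
    (hfpf : FixedPointFree V B) : IsCyclic B := by
  letI : CommGroup B := { (inferInstance : Group B) with mul_comm := mul_comm' }
  obtain ⟨z, hz⟩ := Monoid.exists_orderOf_eq_exponent (G := B) Monoid.ExponentExists.of_finite
  have hsub : FixedPointFree V (Subgroup.zpowers (z : A)) := fun b hb => hfpf b (Subgroup.zpowers_le.2 z.2 hb)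
  obtain ⟨v, hv, h⟩ := exists_eigenvector hB z.2 hsub (fun y hy => by
    rw [Subgroup.orderOf_coe, hz]
    exact congrArg Subtype.val (Monoid.pow_exponent_eq_one (⟨y, hy⟩ : B)))
  refine ⟨⟨z, fun y => ?_⟩⟩
  obtain ⟨c, hc, hyc⟩ := h y y.2
  obtain ⟨i, rfl⟩ := Subgroup.mem_zpowers_iff.1 hc
  exact ⟨i, Subtype.ext (by
    rw [Subgroup.coe_zpow]; exact (hfpf.eq_of_smul_eq y.2 (zpow_mem z.2 i) hv hyc).symm)⟩

end Cfsg.Lib.OddBase
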