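import Cfsg.Agent.S0205
import Cfsg.Agent.Lib.Solv.Primitive
import Mathlib.GroupTheory.GroupAction.SubMulAction
import Mathlib.GroupTheory.GroupAction.Primitive

/-!
Gluck's theorem: a permutation group of odd order has a subset with trivial setwise stabiliser.
-/

set_option autoImplicit false
set_option linter.unusedSectionVars false
set_option linter.style.haveILetI false

namespace Cfsg.Lib.OddBase

open scoped Pointwise
open MulAction

universe u v

section Basic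

variable {G : Type u} {Ω : Type v} [Group G] [MulAction G Ω]

theorem smul_eq_of_smul_smul_eq [Finite G] (hodd : Odd (Nat.card G)) {g : G} {x : Ω} (h : g • g • x = x) :
    g • x = x := by
  obtain ⟨m, hm⟩ := hodd
  have h2 : g ^ 2 ∈ stabilizer G x := by rw [mem_stabilizer_iff, pow_two, mul_smul]; exact h
  have h3 : (g ^ 2) ^ m • x = x := pow_mem h2 m
  have h4 : g * (g ^ 2) ^ m = 1 := by rw [← pow_mul, ← pow_succ', ← hm, pow_card_eq_one']
  calc g • x = g • (g ^ 2) ^ m • x := by rw [h3]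
    _ = x := by rw [smul_smul, h4, one_smul]

/-- An involution commuting with a group of odd order splits the moved points into two invariant halves. -/
theorem exists_half [Finite G] [Finite Ω] (hodd : Odd (Nat.card G)) (ι : Ω → Ω) (hι : ∀ x, ι (ι x) = x)
    (hcomm : ∀ (g : G) (x : Ω), ι (g • x) = g • ι x) :
    ∃ P : Set Ω, (∀ (g : G) (x : Ω), g • x ∈ P ↔ x ∈ P) ∧ (∀ x ∈ P, ι x ∉ P) ∧
      ∀ x, ι x ≠ x → x ∉ P → ι x ∈ P := by
  classical
  let f : Set Ω → ℕ := fun s => (Finite.equivFin (Set Ω) s).val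
  have hf : Function.Injective f := Fin.val_injective.comp (Finite.equivFin (Set Ω)).injective
  refine ⟨{x | f (orbit G x) < f (orbit G (ι x))}, fun g x => ?_, fun x hx => ?_, fun x hne hx => ?_⟩
  · simp only [Set.mem_ofPred_eq, hcomm, orbit_smul]
  · simp only [Set.mem_ofPred_eq, hι] at hx ⊢
    exact lt_asymm hx
  · simp only [Set.mem_ofPred_eq, hι, not_lt] at hx ⊢
    refine lt_of_le_of_ne hx fun he => hne ?_
    obtain ⟨g, hg⟩ : ι x ∈ orbit G x := by rw [← hf he]; exact mem_orbit_self _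
    simp only at hg
    rw [← hg]
    refine smul_eq_of_smul_smul_eq hodd ?_
    rw [hg, ← hcomm, hg, hι]

/-- Only elements acting trivially stabilise the subset. -/
def Regular (G : Type u) {Ω : Type v} [Group G] [MulAction G Ω] (B : Set Ω) : Prop :=
  ∀ g : G, (∀ x, g • x ∈ B ↔ x ∈ B) → ∀ x : Ω, g • x = x

end Basic

section Aux

variable {G Ω : Type v} [Group G] [Finite G] [Finite Ω] [MulAction G Ω]

/-- Induction hypothesis of the proof of Gluck's theorem. -/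
def GluckBelow (n : ℕ) : Prop :=
  ∀ (G Ω : Type v) [Group G] [Finite G] [Finite Ω] [MulAction G Ω], Nat.card Ω < n → Odd (Nat.card G) →
    ∃ B : Set Ω, Regular G B

theorem regular_on (hb : GluckBelow.{v} (Nat.card Ω)) (hodd : Odd (Nat.card G)) {S : Set Ω}
    (hS : ∀ g : G, ∀ x ∈ S, g • x ∈ S) (hne : S ≠ Set.univ) :
    ∃ B ⊆ S, ∀ g : G, (∀ x ∈ S, g • x ∈ B ↔ x ∈ B) → ∀ x ∈ S, g • x = x := by
  let T : SubMulAction G Ω := ⟨S, fun g x hx => hS g x hx⟩
  obtain ⟨y, hy⟩ := (Set.ne_univ_iff_exists_notMem S).1 hne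
  obtain ⟨B, hB⟩ := hb G T (Finite.card_subtype_lt (p := (· ∈ S)) hy) hodd
  refine ⟨Subtype.val '' B, fun _ ⟨b, _, hbx⟩ => hbx ▸ b.2, fun g hg x hx => ?_⟩
  have key : ∀ z : T, (z : Ω) ∈ Subtype.val '' B ↔ z ∈ B :=
    fun z => Subtype.val_injective.mem_set_image
  refine congrArg Subtype.val (hB g (fun z => ?_) ⟨x, hx⟩)
  rw [← key, ← key]
  exact hg z z.2

theorem imprimitive (hb : GluckBelow.{v} (Nat.card Ω)) (hodd : Odd (Nat.card G)) [IsPretransitive G Ω]
    {X : Set Ω} (hX : IsBlock G X) (hX1 : ¬ X.Subsingleton) (hX2 : X ≠ Set.univ) :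
    ∃ B : Set Ω, Regular G B := by
  classical
  obtain ⟨x₀, hx₀, x₁, hx₁, hne⟩ := Set.not_subsingleton_iff.1 hX1
  have heq : ∀ g g' : G, ∀ x, x ∈ g • X → x ∈ g' • X → g • X = g' • X := fun g g' x h h' => by
    by_contra hc
    exact Set.disjoint_left.1 (hX hc) h h'
  let Ψ := orbit G X
  have ht : ∀ Y : Ψ, ∃ t : G, t • X = (Y : Set Ω) := fun Y => Y.2
  choose t ht using ht
  have huniq : ∀ (Y Y' : Ψ) (x : Ω), x ∈ (Y : Set Ω) → x ∈ (Y' : Set Ω) → Y = Y' := fun Y Y' x h h' =>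
    Subtype.ext (by rw [← ht Y] at h ⊢; rw [← ht Y'] at h' ⊢; exact heq _ _ x h h')
  have hcov : ∀ x : Ω, ∃ Y : Ψ, x ∈ (Y : Set Ω) := fun x => by
    obtain ⟨g, rfl⟩ := exists_smul_eq G x₀ x
    exact ⟨⟨g • X, g, rfl⟩, Set.smul_mem_smul_set hx₀⟩
  choose π hπ using hcov
  have hlt : Nat.card Ψ < Nat.card Ω := by
    have hsurj : Function.Surjective π := fun Y => by
      refine ⟨t Y • x₀, huniq _ _ _ (hπ _) ?_⟩
      rw [← ht Y]; exact Set.smul_mem_smul_set hx₀
    refine lt_of_le_of_ne (Nat.card_le_card_of_surjective π hsurj) fun he => hne ?_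
    have hbij := (Nat.bijective_iff_surjective_and_card π).2 ⟨hsurj, he.symm⟩
    refine hbij.1 ?_
    have hXm : X ∈ Ψ := mem_orbit_self X
    rw [huniq _ ⟨X, hXm⟩ _ (hπ x₀) hx₀, huniq _ ⟨X, hXm⟩ _ (hπ x₁) hx₁]
  obtain ⟨D, hD⟩ := hb G Ψ hlt hodd
  -- a regular subset of the block
  obtain ⟨B₁, hB₁X, hB₁⟩ := regular_on (G := stabilizer G X) hb
    (hodd.of_dvd_nat (Subgroup.card_subgroup_dvd_card _)) (S := X)
    (fun h x hx => by
      have := Set.smul_mem_smul_set (a := (h : G)) hx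
      rwa [mem_stabilizer_iff.1 h.2] at this) hX2
  let P : Ψ → Ω → Prop := fun Y x => x ∈ B₁ ↔ Y ∈ D
  refine ⟨{y | ∀ Y : Ψ, y ∈ (Y : Set Ω) → P Y ((t Y)⁻¹ • y)}, fun g hg y => ?_⟩
  have hmem : ∀ (Y : Ψ) (y : Ω), y ∈ (Y : Set Ω) →
      ((∀ Z : Ψ, y ∈ (Z : Set Ω) → P Z ((t Z)⁻¹ • y)) ↔ P Y ((t Y)⁻¹ • y)) := fun Y y hy =>
    ⟨fun h => h Y hy, fun h Z hZ => huniq Y Z y hy hZ ▸ h⟩
  have hh : ∀ Y : Ψ, (t (g • Y))⁻¹ * g * t Y ∈ stabilizer G X := fun Y => by
    rw [mem_stabilizer_iff, mul_smul, mul_smul, ht, inv_smul_eq_iff, ht, orbit.coe_smul]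
  have key : ∀ Y : Ψ, ∀ x ∈ X, P (g • Y) (((t (g • Y))⁻¹ * g * t Y) • x) ↔ P Y x := by
    intro Y x hx
    have hy : t Y • x ∈ (Y : Set Ω) := by rw [← ht Y]; exact Set.smul_mem_smul_set hx
    have hgy : g • t Y • x ∈ ((g • Y : Ψ) : Set Ω) := by
      rw [orbit.coe_smul]; exact Set.smul_mem_smul_set hy
    have h := hg (t Y • x)
    rw [Set.mem_ofPred_eq, Set.mem_ofPred_eq, hmem _ _ hy, hmem _ _ hgy, inv_smul_smul] at h
    rw [mul_smul, mul_smul]
    exact h
  have hfix : ∀ Y : Ψ, g • Y = Y := by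
    refine hD g fun Y => ?_
    by_contra hne'
    set h : stabilizer G X := ⟨_, hh Y⟩ with hdef
    have hhx : ∀ x ∈ X, h • x ∈ X := fun x hx => by
      have := Set.smul_mem_smul_set (a := (h : G)) hx
      rwa [mem_stabilizer_iff.1 h.2] at this
    have hswap : ∀ x ∈ X, h • x ∈ B₁ ↔ x ∉ B₁ := fun x hx => by
      have h1 : (h • x ∈ B₁ ↔ g • Y ∈ D) ↔ (x ∈ B₁ ↔ Y ∈ D) := key Y x hx
      tauto
    have h2 : ∀ x ∈ X, (h * h) • x = x := hB₁ (h * h) fun x hx => by
      rw [mul_smul, hswap _ (hhx x hx), hswap x hx, not_not]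
    have h3 : h • x₀ = x₀ := smul_eq_of_smul_smul_eq
      (hodd.of_dvd_nat (Subgroup.card_subgroup_dvd_card _)) (by rw [smul_smul]; exact h2 x₀ hx₀)
    have h4 := hswap x₀ hx₀
    rw [h3] at h4
    exact iff_not_self h4
  obtain ⟨Y, hyY⟩ : ∃ Y : Ψ, y ∈ (Y : Set Ω) := ⟨π y, hπ y⟩
  rw [← ht Y] at hyY
  obtain ⟨x, hx, rfl⟩ := hyY
  have hstab := hh Y
  have hk := key Y
  rw [hfix Y] at hstab hk
  have h1 := hB₁ ⟨_, hstab⟩ (fun z hz => by
    have h1 : (((t Y)⁻¹ * g * t Y) • z ∈ B₁ ↔ Y ∈ D) ↔ (z ∈ B₁ ↔ Y ∈ D) := hk z hz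
    show ((t Y)⁻¹ * g * t Y) • z ∈ B₁ ↔ z ∈ B₁
    tauto) x hx
  change ((t Y)⁻¹ * g * t Y) • x = x at h1
  rwa [mul_smul, mul_smul, inv_smul_eq_iff] at h1

theorem primitive (hb : GluckBelow.{v} (Nat.card Ω)) (hodd : Odd (Nat.card G)) [FaithfulSMul G Ω]
    (hprim : IsPreprimitive G Ω) : ∃ B : Set Ω, Regular G B := by
  classical
  by_cases hG : Subsingleton G
  · exact ⟨∅, fun g _ x => by rw [Subsingleton.elim g 1, one_smul]⟩
  haveI := not_subsingleton_iff_nontrivial.1 hG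
  haveI : Group.IsSolvable G := Cfsg.Agent.S0205.result hodd
  obtain ⟨M, hM, -⟩ := Cfsg.Lib.Core.exists_isMinNormal (G := G) (N := ⊤) inferInstance top_ne_bot
  haveI := hM.1
  obtain ⟨-, p, hp, hMp, -⟩ := Cfsg.Lib.Core.minimal_solvable_elementary hM inferInstance
  obtain ⟨hab, htr, hst, -⟩ := Cfsg.Lib.Solv.primitive_regular hprim hM.2.1 hM.2.2
  haveI := hab
  letI : CommGroup M := { (inferInstance : Group M) with mul_comm := mul_comm' }
  haveI : Nonempty Ω := by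
    by_contra h
    rw [not_nonempty_iff] at h
    obtain ⟨g, hg⟩ := exists_ne (1 : G)
    exact hg (eq_of_smul_eq_smul fun ω : Ω => isEmptyElim ω)
  obtain ⟨x₀⟩ := ‹Nonempty Ω›
  let e : M → Ω := fun m => m • x₀
  have he : Function.Bijective e := by
    refine ⟨fun a b h => ?_, fun y => htr.exists_smul_eq x₀ y⟩
    have : b⁻¹ * a ∈ stabilizer M x₀ := by
      rw [mem_stabilizer_iff, mul_smul, inv_smul_eq_iff]; exact h
    rw [hst, Subgroup.mem_bot, inv_mul_eq_one] at this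
    exact this.symm
  have hcardM : Nat.card M = Nat.card Ω := Nat.card_eq_of_bijective e he
  letI : MulAction (stabilizer G x₀) M :=
    MulAction.compHom M (((MulAut.conjNormal : G →* MulAut M)).comp (stabilizer G x₀).subtype)
  have hsmul : ∀ (h : stabilizer G x₀) (m : M), ((h • m : M) : G) = (h : G) * m * (h : G)⁻¹ :=
    fun h m => MulAut.conjNormal_apply _ _
  have hH : Odd (Nat.card (stabilizer G x₀)) := hodd.of_dvd_nat (Subgroup.card_subgroup_dvd_card _)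
  have hinv : ∀ (h : stabilizer G x₀) (m : M), (h • m)⁻¹ = h • m⁻¹ := fun h m =>
    Subtype.ext (by simp only [InvMemClass.coe_inv, hsmul]; group)
  obtain ⟨P, hP1, hP2, hP3⟩ := exists_half hH (fun m : M => m⁻¹) inv_inv hinv
  have h1P : (1 : M) ∉ P := fun h => hP2 1 h (by simpa using h)
  have hfix : ∀ m : M, m⁻¹ = m → m = 1 := fun m hm => by
    have h2 : m ^ 2 = 1 := by rw [pow_two]; nth_rw 1 [← hm]; exact inv_mul_cancel m
    have hcop : Nat.Coprime (orderOf m) 2 := (Nat.coprime_two_right).2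
      ((hodd.of_dvd_nat (Subgroup.card_subgroup_dvd_card _)).of_dvd_nat (orderOf_dvd_natCard m))
    have h3 := pow_gcd_eq_one.2 ⟨pow_orderOf_eq_one m, h2⟩
    rwa [hcop, pow_one] at h3
  obtain ⟨B', hB'P, hB'⟩ := regular_on (G := stabilizer G x₀) (Ω := M) (hcardM ▸ hb) hH (S := P)
    (fun h m hm => (hP1 h m).2 hm) (fun h => h1P (h ▸ Set.mem_univ _))
  haveI := Fintype.ofFinite M
  let S₀ : Finset M := Finset.univ.filter fun m => m ∈ B' ∨ m⁻¹ ∈ B'
  have hS₀ : ∀ m, m ∈ S₀ ↔ m ∈ B' ∨ m⁻¹ ∈ B' := fun m => by simp [S₀]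
  have h1S : (1 : M) ∉ S₀ := fun h => by
    rcases (hS₀ 1).1 h with h | h
    · exact h1P (hB'P h)
    · exact h1P (hB'P (by simpa using h))
  obtain ⟨S, hSp, hSsym, hSP⟩ : ∃ S : Finset M, ¬ p ∣ S.card ∧ (∀ m, m ∈ S → m⁻¹ ∈ S) ∧
      ∀ m ∈ P, m ∈ S ↔ m ∈ B' := by
    have hsym : ∀ m, m ∈ S₀ → m⁻¹ ∈ S₀ := fun m hm => (hS₀ _).2 (by
      rw [inv_inv]; exact ((hS₀ m).1 hm).symm)
    have hSP : ∀ m ∈ P, m ∈ S₀ ↔ m ∈ B' := fun m hm => by
      rw [hS₀]
      exact ⟨fun h => h.resolve_right fun h' => hP2 m hm (hB'P h'), Or.inl⟩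
    by_cases hd : p ∣ S₀.card
    · refine ⟨insert 1 S₀, ?_, fun m hm => ?_, fun m hm => ?_⟩
      · rw [Finset.card_insert_of_notMem h1S]
        exact fun h => hp.not_dvd_one ((Nat.dvd_add_right hd).1 h)
      · rcases Finset.mem_insert.1 hm with rfl | hm
        · simp
        · exact Finset.mem_insert_of_mem (hsym m hm)
      · rw [Finset.mem_insert, or_iff_right (fun h : m = 1 => h1P (by rw [← h]; exact hm)), hSP m hm]
    · exact ⟨S₀, hd, hsym, hSP⟩
  have hprod : ∏ m ∈ S, m = 1 := Finset.prod_involution (fun m _ => m⁻¹) (fun m _ => mul_inv_cancel m)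
    (fun m _ h1 h2 => h1 (hfix m h2)) (fun m hm => hSsym m hm) (fun m _ => inv_inv m)
  refine ⟨e '' (S : Set M), fun g hg => ?_⟩
  obtain ⟨m₀, hm₀⟩ := he.2 (g • x₀)
  have hh : (m₀ : G)⁻¹ * g ∈ stabilizer G x₀ := by
    rw [mem_stabilizer_iff, mul_smul, ← hm₀]
    show (m₀ : G)⁻¹ • (m₀ : G) • x₀ = x₀
    rw [inv_smul_smul]
  set h : stabilizer G x₀ := ⟨_, hh⟩
  have hge : ∀ m : M, g • e m = e ((h • m) * m₀) := by
    intro m
    show g • (m : G) • x₀ = (((h • m) * m₀ : M) : G) • x₀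
    rw [Subgroup.coe_mul, hsmul, mul_smul, smul_smul]
    show (g * (m : G)) • x₀ = ((m₀ : G)⁻¹ * g * m * ((m₀ : G)⁻¹ * g)⁻¹) • (m₀ : G) • x₀
    have hc : (m₀ : G) * ((m₀ : G)⁻¹ * g * m * ((m₀ : G)⁻¹ * g)⁻¹) =
        ((m₀ : G)⁻¹ * g * m * ((m₀ : G)⁻¹ * g)⁻¹) * (m₀ : G) := by
      have := congrArg Subtype.val (mul_comm m₀ (h • m))
      simpa only [Subgroup.coe_mul, hsmul] using this
    rw [smul_smul, ← hc, show (m₀ : G) * ((m₀ : G)⁻¹ * g * m * ((m₀ : G)⁻¹ * g)⁻¹) = g * m * (g⁻¹ * m₀) by group,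
      mul_smul (g * (m : G)) (g⁻¹ * m₀), mul_smul g⁻¹, show (m₀ : G) • x₀ = g • x₀ from hm₀, inv_smul_smul]
  have hS : ∀ m, (h • m) * m₀ ∈ S ↔ m ∈ S := fun m => by
    have := hg (e m)
    rwa [hge, he.1.mem_set_image, he.1.mem_set_image, Finset.mem_coe, Finset.mem_coe] at this
  have hm1 : m₀ = 1 := by
    let σ : M ↪ M := ⟨fun m => (h • m) * m₀, fun a b hab => MulAction.injective h (mul_right_cancel hab)⟩
    have hσ : S.map σ = S := Finset.eq_of_subset_of_card_le (fun x hx => by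
      obtain ⟨m, hm, rfl⟩ := Finset.mem_map.1 hx
      exact (hS m).2 hm) (Finset.card_map σ).ge
    have hpr := hprod
    rw [← hσ, Finset.prod_map] at hpr
    change ∏ x ∈ S, (h • x) * m₀ = 1 at hpr
    rw [Finset.prod_mul_distrib, Finset.prod_const] at hpr
    have hh1 : ∏ m ∈ S, h • m = 1 := by
      show ∏ m ∈ S, MulAut.conjNormal (h : G) m = 1
      rw [← map_prod, hprod, map_one]
    rw [hh1, one_mul] at hpr
    have hmp : m₀ ^ p = 1 := Subtype.ext (by simpa using hMp m₀ m₀.2)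
    have := pow_gcd_eq_one.2 ⟨hmp, hpr⟩
    rwa [(hp.coprime_iff_not_dvd).2 hSp, pow_one] at this
  have hPfix : ∀ m ∈ P, h • m = m := hB' h fun m hm => by
    rw [← hSP m hm, ← hSP _ ((hP1 h m).2 hm)]
    simpa [hm1] using hS m
  intro y
  obtain ⟨m, rfl⟩ := he.2 y
  rw [hge, hm1, mul_one]
  congr 1
  by_cases hm : m ∈ P
  · exact hPfix m hm
  by_cases hmi : m⁻¹ = m
  · rw [hfix m hmi]; exact Subtype.ext (by simp [hsmul])
  · have := hPfix _ (hP3 m hmi hm)
    rwa [← hinv, inv_inj] at this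

end Aux

theorem gluck_faithful : ∀ (n : ℕ) (G Ω : Type v) [Group G] [Finite G] [Finite Ω] [MulAction G Ω]
    [FaithfulSMul G Ω], Nat.card Ω = n → Odd (Nat.card G) → ∃ B : Set Ω, Regular G B := by
  intro n
  induction n using Nat.strong_induction_on with
  | _ n ih =>
    intro G Ω _ _ _ _ _ hn hodd
    classical
    have hb : GluckBelow.{v} (Nat.card Ω) := fun G' Ω' _ _ _ _ hlt hodd' => by
      let f := MulAction.toPermHom G' Ω'
      obtain ⟨B, hB⟩ := ih (Nat.card Ω') (hn ▸ hlt) f.range Ω' rfl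
        (hodd'.of_dvd_nat (Subgroup.card_range_dvd f))
      exact ⟨B, fun g hg x => hB ⟨f g, g, rfl⟩ hg x⟩
    by_cases htr : IsPretransitive G Ω
    · by_cases hprim : ∀ X : Set Ω, IsBlock G X → IsTrivialBlock X
      · exact primitive hb hodd { toIsPretransitive := htr, isTrivialBlock_of_isBlock := fun h => hprim _ h }
      · push Not at hprim
        obtain ⟨X, hX, hX'⟩ := hprim
        exact imprimitive hb hodd hX (fun h => hX' (Or.inl h)) (fun h => hX' (Or.inr h))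
    · obtain ⟨a, b, hab⟩ : ∃ a b : Ω, b ∉ orbit G a := by
        by_contra hc
        push Not at hc
        exact htr ⟨hc⟩
      obtain ⟨B₁, hB₁, h₁⟩ := regular_on hb hodd (S := orbit G a) (fun g x hx => mem_orbit_of_mem_orbit g hx)
        (fun h => hab (h ▸ Set.mem_univ b))
      obtain ⟨B₂, hB₂, h₂⟩ := regular_on hb hodd (S := (orbit G a)ᶜ) (fun g x hx h => hx (by
          have := mem_orbit_of_mem_orbit g⁻¹ h; rwa [inv_smul_smul] at this))
        (fun h => (Set.compl_ne_univ.2 ⟨a, mem_orbit_self a⟩) h)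
      refine ⟨B₁ ∪ B₂, fun g hg x => ?_⟩
      by_cases hx : x ∈ orbit G a
      · refine h₁ g (fun y hy => ?_) x hx
        have := hg y
        simp only [Set.mem_union] at this
        have hgy := mem_orbit_of_mem_orbit g hy
        rwa [or_iff_left (fun h => hB₂ h hgy), or_iff_left (fun h => hB₂ h hy)] at this
      · refine h₂ g (fun y hy => ?_) x hx
        have := hg y
        simp only [Set.mem_union] at this
        have hgy : g • y ∉ orbit G a := fun h => hy (by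
          have := mem_orbit_of_mem_orbit g⁻¹ h; rwa [inv_smul_smul] at this)
        rwa [or_iff_right (fun h => hgy (hB₁ h)), or_iff_right (fun h => hy (hB₁ h))] at this

/-- Gluck's theorem for a group of odd order acting on a finite set. -/
theorem exists_regular_subset {G : Type u} {Ω : Type v} [Group G] [Finite G] [Finite Ω] [MulAction G Ω]
    (hodd : Odd (Nat.card G)) : ∃ B : Set Ω, Regular G B := by
  let f := MulAction.toPermHom G Ω
  obtain ⟨B, hB⟩ := gluck_faithful (Nat.card Ω) f.range Ω rfl (hodd.of_dvd_nat (Subgroup.card_range_dvd f))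
  exact ⟨B, fun g hg x => hB ⟨f g, g, rfl⟩ hg x⟩

end Cfsg.Lib.OddBase
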