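import Cfsg.Agent.Lib.OddBase.Eigen
import Cfsg.Agent.Lib.PGroup.ClassTwo

/-!
The quadratic map attached to an automorphism acting trivially modulo a maximal abelian subgroup.
-/

set_option autoImplicit false
set_option linter.unusedSectionVars false
set_option linter.style.haveILetI false

namespace Cfsg.Lib.OddBase

open scoped commutatorElement
open Cfsg.Lib.PGroup

universe u v

variable {N : Type u} {V : Type v} [Group N] [AddCommGroup V] [DistribMulAction N V]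

theorem mem_center_of_commutator (hcl : commutator N ≤ Subgroup.center N) (a b : N) :
    ⁅a, b⁆ ∈ Subgroup.center N :=
  hcl (Subgroup.commutator_mem_commutator (Subgroup.mem_top a) (Subgroup.mem_top b))

theorem commutatorElement_inv_inv (hcl : commutator N ≤ Subgroup.center N) (a b : N) :
    ⁅a⁻¹, b⁻¹⁆ = ⁅a, b⁆ := by
  have h1 : ⁅a⁻¹, b⁻¹⁆ = ⁅a⁻¹, b⁆⁻¹ := eq_inv_of_mul_eq_one_left (by
    rw [← commutatorElement_mul_right hcl, inv_mul_cancel, commutatorElement_one_right])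
  have h2 : ⁅a⁻¹, b⁆ = ⁅a, b⁆⁻¹ := eq_inv_of_mul_eq_one_left (by
    rw [← commutatorElement_mul_left hcl, inv_mul_cancel, commutatorElement_one_left])
  rw [h1, h2, inv_inv]

/-- Data: an eigenvector `w₀` of the maximal abelian subgroup `U` and an automorphism `φ` which is trivial on the
centre, fixes the eigenvalues of `U` and is trivial modulo `U`. -/
structure QuadData (N : Type u) (V : Type v) [Group N] [AddCommGroup V] [DistribMulAction N V] where
  U : Subgroup N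
  w₀ : V
  φ : N ≃* N
  hcl : commutator N ≤ Subgroup.center N
  hCU : Subgroup.center N ≤ U
  hfpf : FixedPointFree V (Subgroup.center N)
  hw₀ : w₀ ≠ 0
  heig : ∀ y ∈ U, ∃ k ∈ Subgroup.center N, y • w₀ = k • w₀
  hφC : ∀ k ∈ Subgroup.center N, φ k = k
  hφU : ∀ y ∈ U, φ y • w₀ = y • w₀
  hφx : ∀ x, x⁻¹ * φ x ∈ U

namespace QuadData

variable (D : QuadData N V)

/-- The scalar by which the automorphism moves `x • w₀`. -/
noncomputable def coef (x : N) : N := (D.heig _ (D.hφx x)).choose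

theorem coef_mem (x : N) : D.coef x ∈ Subgroup.center N := (D.heig _ (D.hφx x)).choose_spec.1

theorem coef_spec' (x : N) : (x⁻¹ * D.φ x) • D.w₀ = D.coef x • D.w₀ := (D.heig _ (D.hφx x)).choose_spec.2

theorem coef_spec (x : N) : D.φ x • D.w₀ = (D.coef x * x) • D.w₀ := by
  have h := congrArg (x • ·) (D.coef_spec' x)
  simp only [smul_smul, mul_inv_cancel_left] at h
  rw [h, Subgroup.mem_center_iff.1 (D.coef_mem x) x]

theorem coef_eq {x k : N} (hk : k ∈ Subgroup.center N) (h : D.φ x • D.w₀ = (k * x) • D.w₀) : D.coef x = k := by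
  rw [D.coef_spec, mul_smul, mul_smul] at h
  exact D.hfpf.eq_of_smul_eq (D.coef_mem x) hk (fun h0 => D.hw₀ (by simpa using congrArg (x⁻¹ • ·) h0)) h

theorem coef_eq_one_iff (x : N) : D.coef x = 1 ↔ D.φ x • D.w₀ = x • D.w₀ := by
  refine ⟨fun h => ?_, fun h => D.coef_eq (one_mem _) (by rw [one_mul, h])⟩
  rw [D.coef_spec, h, one_mul]

theorem coef_of_mem {y : N} (hy : y ∈ D.U) : D.coef y = 1 := (D.coef_eq_one_iff y).2 (D.hφU y hy)

theorem coef_mul (x₁ x₂ : N) : D.coef (x₁ * x₂) = D.coef x₁ * D.coef x₂ * ⁅x₁⁻¹ * D.φ x₁, x₂⁆ := by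
  set k₁ := D.coef x₁ with hk₁
  set k₂ := D.coef x₂ with hk₂
  set χ := x₁⁻¹ * D.φ x₁ with hχ
  set γ := ⁅χ, x₂⁆ with hγ
  have hγC : γ ∈ Subgroup.center N := mem_center_of_commutator D.hcl _ _
  refine D.coef_eq (mul_mem (mul_mem (D.coef_mem _) (D.coef_mem _)) hγC) ?_
  have hk1 : ∀ g, Commute g k₁ := fun g => Subgroup.mem_center_iff.1 (D.coef_mem x₁) g
  have hk2 : ∀ g, Commute g k₂ := fun g => Subgroup.mem_center_iff.1 (D.coef_mem x₂) g
  have hg : ∀ g, Commute g γ := fun g => Subgroup.mem_center_iff.1 hγC g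
  have hswap : χ * x₂ = x₂ * χ * γ := by
    rw [hγ, ← commutatorElement_inv_inv D.hcl, commutatorElement_def]; group
  calc D.φ (x₁ * x₂) • D.w₀ = (x₁ * χ) • D.φ x₂ • D.w₀ := by rw [map_mul, mul_smul, hχ, mul_inv_cancel_left]
    _ = (k₂ * (x₁ * (χ * x₂))) • D.w₀ := by
      rw [D.coef_spec x₂, smul_smul, ← hk₂, ← mul_assoc (x₁ * χ), (hk2 (x₁ * χ)).eq]
      simp only [mul_assoc]
    _ = (k₂ * γ * (x₁ * x₂)) • χ • D.w₀ := by
      rw [hswap, smul_smul]
      congr 1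
      calc k₂ * (x₁ * (x₂ * χ * γ)) = k₂ * (x₁ * x₂ * χ * γ) := by simp only [mul_assoc]
        _ = k₂ * (γ * (x₁ * x₂ * χ)) := by rw [(hg (x₁ * x₂ * χ)).eq]
        _ = k₂ * γ * (x₁ * x₂) * χ := by simp only [mul_assoc]
    _ = (k₁ * k₂ * γ * (x₁ * x₂)) • D.w₀ := by
      rw [hχ, D.coef_spec' x₁, ← hk₁, smul_smul, (hk1 _).eq]
      simp only [mul_assoc]

theorem coef_mul_of_mem (x : N) {y : N} (hy : y ∈ D.U) (hab : IsMulCommutative D.U) :
    D.coef (x * y) = D.coef x := by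
  have hc : ⁅x⁻¹ * D.φ x, y⁆ = 1 := commutatorElement_eq_one_iff_mul_comm.2
    (congrArg Subtype.val (mul_comm' (⟨_, D.hφx x⟩ : D.U) ⟨y, hy⟩))
  rw [D.coef_mul, hc, D.coef_of_mem hy, mul_one, mul_one]

/-- The odd part of the coefficient map, a homomorphism. -/
noncomputable def oddPart (hab : IsMulCommutative D.U) : N →* N where
  toFun x := D.coef x * (D.coef x⁻¹)⁻¹
  map_one' := by simp
  map_mul' a b := by
    have hC : ∀ {k : N}, k ∈ Subgroup.center N → ∀ g, g * k = k * g := fun hk g => Subgroup.mem_center_iff.1 hk g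
    have h1 : D.coef (a * b)⁻¹ = D.coef (a⁻¹ * b⁻¹) := by
      have hk := mem_center_of_commutator D.hcl b⁻¹ a⁻¹
      rw [show (a * b)⁻¹ = ⁅b⁻¹, a⁻¹⁆ * (a⁻¹ * b⁻¹) by rw [commutatorElement_def]; group,
        ← hC hk, D.coef_mul_of_mem _ (D.hCU hk) hab]
    have h2 : ⁅a⁻¹⁻¹ * D.φ a⁻¹, b⁻¹⁆ = ⁅a⁻¹ * D.φ a, b⁆ := by
      have e : a⁻¹⁻¹ * D.φ a⁻¹ = ⁅a, (a⁻¹ * D.φ a)⁻¹⁆ * (a⁻¹ * D.φ a)⁻¹ := by
        rw [commutatorElement_def, map_inv]; group
      have e2 : ⁅⁅a, (a⁻¹ * D.φ a)⁻¹⁆, b⁻¹⁆ = 1 := commutatorElement_eq_one_iff_mul_comm.2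
        (hC (mem_center_of_commutator D.hcl _ _) _).symm
      rw [e, commutatorElement_mul_left D.hcl, e2, one_mul, commutatorElement_inv_inv D.hcl]
    rw [h1, D.coef_mul, D.coef_mul, h2]
    set γ := ⁅a⁻¹ * D.φ a, b⁆
    have hcb := D.coef_mem b⁻¹
    have hca := D.coef_mem a⁻¹
    calc D.coef a * D.coef b * γ * (D.coef a⁻¹ * D.coef b⁻¹ * γ)⁻¹
        = D.coef a * (D.coef b * (D.coef b⁻¹)⁻¹ * (D.coef a⁻¹)⁻¹) := by group
      _ = D.coef a * ((D.coef a⁻¹)⁻¹ * (D.coef b * (D.coef b⁻¹)⁻¹)) := by rw [hC (inv_mem hca)]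
      _ = _ := by group

theorem oddPart_apply (hab : IsMulCommutative D.U) (x : N) :
    D.oddPart hab x = D.coef x * (D.coef x⁻¹)⁻¹ := rfl

theorem eq_self_of_coef_eq_one (h : ∀ x, D.coef x = 1) (x : N) : D.φ x = x := by
  have hc : x⁻¹ * D.φ x ∈ Subgroup.center N := Subgroup.mem_center_iff.2 fun g => by
    have h1 := D.coef_mul x g
    rw [h, h, h, one_mul, one_mul, eq_comm, commutatorElement_eq_one_iff_mul_comm] at h1
    exact h1.symm
  have h1 := D.hfpf _ hc D.w₀ D.hw₀ (by rw [D.coef_spec', h, one_smul])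
  exact (inv_mul_eq_one.1 h1).symm

end QuadData

end Cfsg.Lib.OddBase
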