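import Cfsg.Agent.Lib.OddBase.QuadForm
import Cfsg.Agent.Lib.OddBase.ClassTwo
import Cfsg.Agent.Lib.OddBase.Gluck
import Cfsg.Agent.S5876

/-!
Two vectors with trivial common stabiliser for a group of odd order all of whose abelian normal subgroups act
fixed-point-freely.
-/

set_option autoImplicit false
set_option linter.unusedSectionVars false
set_option linter.style.haveILetI false

namespace Cfsg.Lib.OddBase

open scoped commutatorElement
open MulAction

universe v

theorem mem_or_mem_imp_eq_top {G : Type v} [Group G] {H K : Subgroup G} (h : ∀ x, x ∈ H ∨ x ∈ K) :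
    H = ⊤ ∨ K = ⊤ := by
  by_contra hc
  push Not at hc
  obtain ⟨a, ha⟩ := (Ne.lt_top hc.1).not_ge |> SetLike.not_le_iff_exists.1
  obtain ⟨b, hb⟩ := (Ne.lt_top hc.2).not_ge |> SetLike.not_le_iff_exists.1
  have ha' := (h a).resolve_left ha.2
  have hb' := (h b).resolve_right hb.2
  rcases h (a * b) with hab | hab
  · exact ha.2 ((mul_mem_cancel_right hb').1 hab)
  · exact hb.2 ((mul_mem_cancel_left ha').1 hab)

section Eigenspaces

variable {N : Type v} {V : Type v} [Group N] [AddCommGroup V] [DistribMulAction N V]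
  (U : Subgroup N) (v₀ : V)

/-- The eigenspace of `U` belonging to the conjugate of the eigenvalues of `v₀` by `x`. -/
def eigSpace (x : N) : AddSubgroup V where
  carrier := {w | ∀ y ∈ U, ∀ k ∈ Subgroup.center N, (x⁻¹ * y * x) • v₀ = k • v₀ → y • w = k • w}
  add_mem' := fun ha hb y hy k hk h => by rw [smul_add, smul_add, ha y hy k hk h, hb y hy k hk h]
  zero_mem' := fun y _ k _ _ => by rw [smul_zero, smul_zero]
  neg_mem' := fun ha y hy k hk h => by rw [smul_neg, smul_neg, ha y hy k hk h]

theorem smul_mem_eigSpace (x : N) : x • v₀ ∈ eigSpace U v₀ x := fun y _ k hk h => by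
  calc y • x • v₀ = x • (x⁻¹ * y * x) • v₀ := by rw [smul_smul, smul_smul]; congr 1; group
    _ = k • x • v₀ := by rw [h, smul_smul, smul_smul, Subgroup.mem_center_iff.1 hk x]

theorem conj_mem_of_center_le (hcl : commutator N ≤ Subgroup.center N) (hCU : Subgroup.center N ≤ U)
    {y : N} (hy : y ∈ U) (x : N) : x⁻¹ * y * x ∈ U := by
  have h : x⁻¹ * y * x = y * ⁅y⁻¹, x⁻¹⁆ := by rw [commutatorElement_def]; group
  rw [h]
  exact mul_mem hy (hCU (mem_center_of_commutator hcl _ _))

theorem eigSpace_eq (hcl : commutator N ≤ Subgroup.center N) (hCU : Subgroup.center N ≤ U)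
    (hab : IsMulCommutative U) {x x' : N} (h : x⁻¹ * x' ∈ U) :
    eigSpace U v₀ x' = eigSpace U v₀ x := by
  have key : ∀ y ∈ U, x'⁻¹ * y * x' = x⁻¹ * y * x := fun y hy => by
    have hc := congrArg Subtype.val
      (mul_comm' (⟨_, conj_mem_of_center_le U hcl hCU hy x⟩ : U) ⟨_, h⟩)
    calc x'⁻¹ * y * x' = (x⁻¹ * x')⁻¹ * ((x⁻¹ * y * x) * (x⁻¹ * x')) := by group
      _ = _ := by simp only [Subgroup.coe_mul] at hc; rw [hc, inv_mul_cancel_left]
  ext w
  exact ⟨fun hw y hy k hk e => hw y hy k hk ((key y hy).symm ▸ e),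
    fun hw y hy k hk e => hw y hy k hk ((key y hy) ▸ e)⟩

end Eigenspaces

theorem exists_maximal_abelian {N : Type v} [Group N] [Finite N] :
    ∃ U : Subgroup N, Subgroup.center N ≤ U ∧ IsMulCommutative U ∧
      ∀ x, (∀ y ∈ U, Commute x y) → x ∈ U := by
  obtain ⟨U, hU⟩ := Set.Finite.exists_maximal
    (s := {U : Subgroup N | Subgroup.center N ≤ U ∧ IsMulCommutative U}) (Set.toFinite _)
    ⟨Subgroup.center N, le_rfl, inferInstance⟩
  obtain ⟨hCU, hab⟩ := hU.prop
  refine ⟨U, hCU, hab, fun x hx => ?_⟩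
  let s : Set N := insert x (U : Set N)
  have hs : ∀ a ∈ s, ∀ b ∈ s, Commute a b := by
    intro a ha b hb
    rcases ha with rfl | ha <;> rcases hb with rfl | hb
    · exact Commute.refl _
    · exact hx b hb
    · exact (hx a ha).symm
    · exact congrArg Subtype.val (mul_comm' (⟨a, ha⟩ : U) ⟨b, hb⟩)
  have h1 : Subgroup.closure s ≤ Subgroup.centralizer s :=
    (Subgroup.closure_le _).2 fun a ha => Subgroup.mem_centralizer_iff.2 fun b hb => hs b hb a ha
  have h2 : IsMulCommutative (Subgroup.closure s) := ⟨⟨fun a b => Subtype.ext (by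
    have h3 : Subgroup.closure s ≤ Subgroup.centralizer {(b : N)} :=
      (Subgroup.closure_le _).2 fun c hc => Subgroup.mem_centralizer_iff.2 fun d hd => by
        rw [Set.mem_singleton_iff.1 hd]
        exact (Subgroup.mem_centralizer_iff.1 (h1 b.2) c hc).symm
    exact (Subgroup.mem_centralizer_iff.1 (h3 a.2) b rfl).symm)⟩⟩
  have hle : U ≤ Subgroup.closure s := fun y hy => Subgroup.subset_closure (Set.mem_insert_of_mem _ hy)
  exact (hU.le_of_ge ⟨hCU.trans hle, h2⟩ hle) (Subgroup.subset_closure (Set.mem_insert _ _))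

variable {A V : Type v} [Group A] [Finite A] [AddCommGroup V] [Finite V] [DistribMulAction A V]

theorem quasiprimitive [FaithfulSMul A V] [Nontrivial V] (hodd : Odd (Nat.card A))
    (hfpf : ∀ B : Subgroup A, B.Normal → IsMulCommutative B → FixedPointFree V B) :
    ∃ v w : V, ∀ a : A, a • v = v → a • w = w → a = 1 := by
  classical
  haveI : Group.IsSolvable A := Cfsg.Agent.S0205.result hodd
  obtain ⟨N, hN, hN2, hCN⟩ := Cfsg.Agent.S5876.exists_classTwo A
  haveI := hN
  have hcl : commutator N ≤ Subgroup.center N := by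
    rw [commutator_def, Subgroup.commutator_le]
    intro x _ y _
    refine Subgroup.mem_center_iff.2 fun g => Subtype.ext ?_
    exact Subgroup.mem_centralizer_iff.1 (hN2 x x.2 y y.2) g g.2
  have hfpf' : ∀ B : Subgroup N, B.Characteristic → IsMulCommutative B → FixedPointFree V B := by
    intro B hB hBab b hb w hw hbw
    have h1 : (B.map N.subtype).Normal := inferInstance
    have h2 : IsMulCommutative (B.map N.subtype) := Subgroup.map_isMulCommutative B _
    exact Subtype.ext (hfpf _ h1 h2 b ⟨b, hb, rfl⟩ w hw hbw)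
  have hcyc : ∀ B : Subgroup N, B.Characteristic → IsMulCommutative B → IsCyclic B :=
    fun B hB hBab => isCyclic_of_fpf hBab (hfpf' B hB hBab)
  have hoddN : Odd (Nat.card N) := hodd.of_dvd_nat (Subgroup.card_subgroup_dvd_card _)
  have hC := hfpf' _ inferInstance (inferInstance : IsMulCommutative (Subgroup.center N))
  haveI := hcyc _ inferInstance (inferInstance : IsMulCommutative (Subgroup.center N))
  obtain ⟨zc, hzc⟩ := IsCyclic.exists_generator (α := Subgroup.center N)
  set z : N := (zc : N) with hz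
  have hzC : Subgroup.zpowers z = Subgroup.center N :=
    le_antisymm (Subgroup.zpowers_le.2 zc.2) fun c hc => by
      obtain ⟨i, hi⟩ := Subgroup.mem_zpowers_iff.1 (hzc ⟨c, hc⟩)
      exact ⟨i, congrArg Subtype.val hi⟩
  obtain ⟨U, hCU, hab, hself⟩ := exists_maximal_abelian (N := N)
  have hzn : orderOf z = Nat.card (Subgroup.center N) := by rw [← Nat.card_zpowers, hzC]
  obtain ⟨v₀, hv₀, heig'⟩ := exists_eigenvector (V := V) hab (hCU zc.2) (by rw [hzC]; exact hC)
    (fun y _ => by rw [hzn]; exact pow_card_center_eq_one hoddN hcl hcyc y)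
  rw [hzC] at heig'
  -- the stabiliser of the line
  have hline : ∀ x : N, (∃ k ∈ Subgroup.center N, x • v₀ = k • v₀) → x ∈ U := by
    rintro x ⟨k, hk, hx⟩
    refine hself x fun y hy => ?_
    obtain ⟨k', hk', hy'⟩ := heig' y hy
    have hγ := mem_center_of_commutator hcl y⁻¹ x⁻¹
    have hk'g : ∀ g, g * k' = k' * g := fun g => Subgroup.mem_center_iff.1 hk' g
    have hkg : ∀ g, g * k = k * g := fun g => Subgroup.mem_center_iff.1 hk g
    have h1 : ⁅y⁻¹, x⁻¹⁆ • (k * k') • v₀ = (1 : N) • (k * k') • v₀ := by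
      have h2 : (x⁻¹ * y * x) • v₀ = k' • v₀ :=
        calc (x⁻¹ * y * x) • v₀ = x⁻¹ • y • k • v₀ := by rw [mul_smul, mul_smul, hx]
          _ = x⁻¹ • k • y • v₀ := by rw [← mul_smul y, hkg y, mul_smul]
          _ = x⁻¹ • k' • k • v₀ := by rw [hy', ← mul_smul k, ← hkg k', mul_smul]
          _ = x⁻¹ • k' • x • v₀ := by rw [hx]
          _ = k' • v₀ := by rw [← mul_smul k', ← hk'g x, mul_smul, inv_smul_smul]
      have h3 : x⁻¹ * y * x = ⁅y⁻¹, x⁻¹⁆ * y := by
        rw [← Subgroup.mem_center_iff.1 hγ y, commutatorElement_def]; group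
      rw [h3, mul_smul, hy'] at h2
      rw [one_smul, mul_smul k k', smul_smul _ k, ← Subgroup.mem_center_iff.1 hγ k, mul_smul, h2]
    have h4 := hC.eq_of_smul_eq hγ (one_mem _) (fun h0 => hv₀ ((smul_eq_zero_iff_eq _).1 h0)) h1
    rw [commutatorElement_eq_one_iff_mul_comm] at h4
    exact (Commute.inv_inv_iff.1 (h4 : Commute y⁻¹ x⁻¹)).symm
  have hUn : U.Normal := ⟨fun y hy x => by
    have := conj_mem_of_center_le U hcl hCU hy x⁻¹
    rwa [inv_inv] at this⟩
  -- automorphisms
  let conj : A →* MulAut N := MulAut.conjNormal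
  have hconj : ∀ (a : A) (x : N) (w : V), a • x • w = conj a x • a • w := fun a x w => by
    show a • (x : A) • w = ((conj a x : N) : A) • a • w
    rw [show ((conj a x : N) : A) = a * x * a⁻¹ from MulAut.conjNormal_apply a x, smul_smul, smul_smul]
    congr 1
    group
  have hconjC : ∀ (a : A) (k : N), k ∈ Subgroup.center N → conj a k ∈ Subgroup.center N := fun a k hk =>
    Subgroup.characteristic_iff_le_comap.1 inferInstance (conj a) hk
  let H := stabilizer A v₀
  have hHU : ∀ a : H, U ≤ U.comap (conj (a : A)).toMonoidHom := fun a y hy => by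
    obtain ⟨k, hk, hyk⟩ := heig' y hy
    refine hline _ ⟨conj (a : A) k, hconjC _ _ hk, ?_⟩
    show conj (a : A) y • v₀ = _
    conv_lhs => rw [← mem_stabilizer_iff.1 a.2, ← hconj, hyk, hconj, mem_stabilizer_iff.1 a.2]
  let Q := N ⧸ U
  letI : MulAction H Q :=
    { smul := fun a q => QuotientGroup.map U U (conj (a : A)).toMonoidHom (hHU a) q
      one_smul := fun q => by
        induction q using QuotientGroup.induction_on with
        | H x => show ((conj (1 : A) x : N) : Q) = x; rw [map_one]; rfl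
      mul_smul := fun a b q => by
        induction q using QuotientGroup.induction_on with
        | H x => show ((conj ((a : A) * b) x : N) : Q) = ((conj (a : A) (conj (b : A) x) : N) : Q)
                 rw [map_mul]; rfl }
  have hmk : ∀ (a : H) (x : N), a • (x : Q) = ((conj (a : A) x : N) : Q) := fun a x => rfl
  have hsmul_inv : ∀ (a : H) (q : Q), (a • q)⁻¹ = a • q⁻¹ := fun a q =>
    (map_inv (QuotientGroup.map U U (conj (a : A)).toMonoidHom (hHU a)) q).symm
  have hH1 : ∀ a : H, a • (1 : Q) = 1 := fun a => map_one (QuotientGroup.map U U (conj (a : A)).toMonoidHom (hHU a))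
  have hHodd : Odd (Nat.card H) := hodd.of_dvd_nat (Subgroup.card_subgroup_dvd_card _)
  obtain ⟨P, hP1, hP2, hP3⟩ := exists_half hHodd (fun q : Q => q⁻¹) inv_inv hsmul_inv
  have hfix : ∀ q : Q, q⁻¹ = q → q = 1 := fun q hq => by
    have h2 : q ^ 2 = 1 := by rw [pow_two]; nth_rw 1 [← hq]; exact inv_mul_cancel q
    have hcop : Nat.Coprime (orderOf q) 2 := (Nat.coprime_two_right).2
      ((hoddN.of_dvd_nat (Subgroup.card_quotient_dvd_card _)).of_dvd_nat (orderOf_dvd_natCard q))
    have h3 := pow_gcd_eq_one.2 ⟨pow_orderOf_eq_one q, h2⟩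
    rwa [hcop, pow_one] at h3
  let T : SubMulAction H Q := ⟨P, fun a q hq => (hP1 a q).2 hq⟩
  obtain ⟨B', hB'⟩ := exists_regular_subset (Ω := T) hHodd
  let S₁ : Set Q := {q | q ∉ P ∨ q ∈ Subtype.val '' B'}
  let S₂ : Set Q := {q | q ∉ P ∨ q ∉ Subtype.val '' B'}
  -- the second vector attached to a set of cosets
  let F : Set Q → Q → V := fun S q => if q = 1 then z • v₀ else if q ∈ S then q.out • v₀ else 0
  haveI := Fintype.ofFinite Q
  let W : Set Q → V := fun S => ∑ q : Q, F S q
  let E : Q → AddSubgroup V := fun q => eigSpace U v₀ q.out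
  have hE : ∀ x : N, E (x : Q) = eigSpace U v₀ x := fun x =>
    eigSpace_eq U v₀ hcl hCU hab (QuotientGroup.eq.1 (QuotientGroup.out_eq' (x : Q)).symm)
  have hFE : ∀ S q, F S q ∈ E q := fun S q => by
    simp only [F]
    split_ifs with h1 h2
    · subst h1
      rw [show (1 : Q) = ((z : N) : Q) from ((QuotientGroup.eq_one_iff z).2 (hCU zc.2)).symm, hE]
      exact smul_mem_eigSpace U v₀ z
    · exact smul_mem_eigSpace U v₀ _
    · exact zero_mem _
  have hne : ∀ (x : N), x • v₀ ≠ 0 := fun x h => hv₀ (by simpa using congrArg (x⁻¹ • ·) h)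
  have hindep : ∀ (s : Finset Q) (G : Q → V), (∀ q ∈ s, G q ∈ E q) → ∑ q ∈ s, G q = 0 →
      ∀ q ∈ s, G q = 0 := by
    intro s
    induction s using Finset.induction with
    | empty => simp
    | insert q₀ s hq₀ ih =>
      intro G hG hsum
      rw [Finset.sum_insert hq₀] at hsum
      have hs : ∀ q ∈ s, G q = 0 := by
        intro q hq
        have hneq : q ≠ q₀ := fun h => hq₀ (h ▸ hq)
        obtain ⟨y, hy, hy'⟩ : ∃ y ∈ U, q₀.out⁻¹ * y * q₀.out ≠ q.out⁻¹ * y * q.out := by
          by_contra hall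
          push Not at hall
          apply hneq
          have hd : q.out * q₀.out⁻¹ ∈ U := hself _ fun y hy => by
            show q.out * q₀.out⁻¹ * y = y * (q.out * q₀.out⁻¹)
            calc q.out * q₀.out⁻¹ * y = q.out * (q₀.out⁻¹ * y * q₀.out) * q₀.out⁻¹ := by group
              _ = q.out * (q.out⁻¹ * y * q.out) * q₀.out⁻¹ := by rw [hall y hy]
              _ = y * (q.out * q₀.out⁻¹) := by group
          rw [← QuotientGroup.out_eq' q, ← QuotientGroup.out_eq' q₀]
          refine (QuotientGroup.eq.2 ?_).symm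
          have := hUn.conj_mem _ hd q₀.out⁻¹
          convert this using 1
          group
        have hev : ∀ q' : Q, ∃ k ∈ Subgroup.center N, (q'.out⁻¹ * y * q'.out) • v₀ = k • v₀ :=
          fun q' => heig' _ (conj_mem_of_center_le U hcl hCU hy _)
        obtain ⟨k₀, hk₀, e₀⟩ := hev q₀
        have hz0 : ∀ q' ∈ s, y • G q' - k₀ • G q' = 0 := by
          refine ih (fun q' => y • G q' - k₀ • G q') (fun q' hq' => ?_) ?_
          · obtain ⟨k', hk', e'⟩ := hev q'
            show y • G q' - k₀ • G q' ∈ E q'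
            rw [hG q' (Finset.mem_insert_of_mem hq') y hy k' hk' e']
            intro y₁ hy₁ c hc hc'
            have := hG q' (Finset.mem_insert_of_mem hq') y₁ hy₁ c hc hc'
            rw [smul_sub, smul_sub, smul_smul y₁, smul_smul y₁, Subgroup.mem_center_iff.1 hk' y₁,
              Subgroup.mem_center_iff.1 hk₀ y₁, mul_smul, mul_smul, this, smul_smul k', smul_smul k₀,
              ← Subgroup.mem_center_iff.1 hk' c, ← Subgroup.mem_center_iff.1 hk₀ c, mul_smul, mul_smul]
          · have h0 := congrArg (fun w => y • w - k₀ • w) hsum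
            simp only [smul_add, smul_zero, sub_zero, Finset.smul_sum,
              hG q₀ (Finset.mem_insert_self _ _) y hy k₀ hk₀ e₀, add_sub_add_left_eq_sub] at h0
            rw [Finset.sum_sub_distrib]
            exact h0
        obtain ⟨k', hk', e'⟩ := hev q
        have h := sub_eq_zero.1 (hz0 q hq)
        rw [hG q (Finset.mem_insert_of_mem hq) y hy k' hk' e'] at h
        by_contra hg
        have hkk := hC.eq_of_smul_eq hk' hk₀ hg h
        apply hy'
        -- equal eigenvalues force equal conjugates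
        have hγ : ∀ q' : Q, q'.out⁻¹ * y * q'.out = ⁅y⁻¹, q'.out⁻¹⁆ * y := fun q' => by
          rw [← Subgroup.mem_center_iff.1 (mem_center_of_commutator hcl _ _) y, commutatorElement_def]; group
        rw [hγ q, hkk] at e'
        rw [hγ q₀] at e₀
        rw [← e'] at e₀
        rw [hγ q₀, hγ q, hC.eq_of_smul_eq (mem_center_of_commutator hcl _ _) (mem_center_of_commutator hcl _ _)
          (hne y) (by simpa only [mul_smul] using e₀)]
      intro q hq
      rcases Finset.mem_insert.1 hq with rfl | hq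
      · rw [Finset.sum_eq_zero hs, add_zero] at hsum; exact hsum
      · exact hs q hq
  -- what fixing both vectors implies
  have hcomp : ∀ S (a : H), (a : A) • W S = W S → ∀ q, F S (a • q) = (a : A) • F S q := by
    intro S a ha q
    have hGE : ∀ q, (a : A) • F S q ∈ E (a • q) := fun q => by
      induction q using QuotientGroup.induction_on with
      | H x =>
        rw [hmk, hE]
        simp only [F]
        split_ifs with h1 h2
        · rw [hconj, mem_stabilizer_iff.1 a.2, eigSpace_eq U v₀ hcl hCU hab (x := conj (a : A) z)]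
          · exact smul_mem_eigSpace U v₀ _
          · rw [← map_inv, ← map_mul]
            exact hHU a (mul_mem (inv_mem (hCU zc.2)) ((QuotientGroup.eq_one_iff x).1 h1))
        · rw [hconj, mem_stabilizer_iff.1 a.2, eigSpace_eq U v₀ hcl hCU hab (x := conj (a : A) (x : Q).out)]
          · exact smul_mem_eigSpace U v₀ _
          · rw [← map_inv, ← map_mul]
            exact hHU a (QuotientGroup.eq.1 (QuotientGroup.out_eq' (x : Q)))
        · rw [smul_zero]; exact zero_mem _
    let G : Q → V := fun r => (a : A) • F S (a⁻¹ • r) - F S r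
    have h0 := hindep Finset.univ G (fun r _ => sub_mem (by
        have := hGE (a⁻¹ • r); rwa [smul_inv_smul] at this) (hFE S r)) (by
      simp only [G, Finset.sum_sub_distrib, ← Finset.smul_sum]
      rw [show ∑ r : Q, F S (a⁻¹ • r) = W S from Equiv.sum_comp (MulAction.toPerm a⁻¹) (F S)]
      exact sub_eq_zero.2 ha) (a • q) (Finset.mem_univ _)
    simp only [G, inv_smul_smul, sub_eq_zero] at h0
    exact h0.symm
  have hinv : ∀ S (a : H), (a : A) • W S = W S → ∀ q, q ≠ 1 → (a • q ∈ S ↔ q ∈ S) := by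
    intro S a ha q hq
    have h := hcomp S a ha q
    have hq' : a • q ≠ 1 := fun h' => hq (by rw [← inv_smul_smul a q, h', hH1])
    simp only [F, if_neg hq, if_neg hq'] at h
    by_cases h1 : q ∈ S <;> by_cases h2 : a • q ∈ S <;> simp only [h1, h2, if_true, if_false] at h ⊢
    · exact absurd (smul_eq_iff_eq_inv_smul (a : A) |>.1 h.symm) (by rw [smul_zero]; exact hne _)
    · exact absurd h (by rw [smul_zero]; exact hne _)
  -- the analysis of an element fixing both vectors
  have hP1' : ∀ q, q ∈ P → q ≠ 1 := fun q hq h => hP2 q hq (by rw [h, inv_one, ← h]; exact hq)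
  have key : ∀ S : Set Q, (∀ q, q ∉ P → q ∈ S) → (∀ a : H, (∀ q ∈ P, a • q ∈ S ↔ q ∈ S) →
      ∀ q ∈ P, a • q = q) → ∀ a : A, a • v₀ = v₀ → a • W S = W S → a ≠ 1 →
      ∃ D : QuadData N V, ∃ hab' : IsMulCommutative D.U,
        (∀ x : N, (x : Q) = 1 ∨ (x : Q) ∈ S → D.coef x = 1) ∧
        (∀ x, D.oddPart hab' x = D.coef x * (D.coef x⁻¹)⁻¹) ∧ ∃ x, D.coef x ≠ 1 := by
    intro S hS hreg a hav haW ha1
    set h : H := ⟨a, hav⟩
    have hperm : ∀ q : Q, h • q = q := by
      have hP : ∀ q ∈ P, h • q = q := hreg h fun q hq => hinv S h haW q (hP1' q hq)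
      intro q
      by_cases hq : q ∈ P
      · exact hP q hq
      by_cases hqi : q⁻¹ = q
      · rw [hfix q hqi, hH1]
      · have := hP _ (hP3 q hqi hq)
        rwa [← hsmul_inv, inv_inj] at this
    have hc := hcomp S h haW
    have hzfix : conj a z = z := by
      have h1 := hc 1
      rw [hH1] at h1
      simp only [F, if_true] at h1
      rw [hconj] at h1
      change z • v₀ = conj a z • a • v₀ at h1
      rw [hav] at h1
      exact hC.eq_of_smul_eq (hconjC a z zc.2) zc.2 hv₀ h1.symm
    have hφC : ∀ k ∈ Subgroup.center N, conj a k = k := fun k hk => by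
      rw [← hzC] at hk
      obtain ⟨i, rfl⟩ := hk
      simp only [map_zpow, hzfix]
    let D : QuadData N V :=
      { U := U, w₀ := v₀, φ := conj a, hcl := hcl, hCU := hCU, hfpf := hC, hw₀ := hv₀, heig := heig',
        hφC := hφC
        hφU := fun y hy => by
          obtain ⟨k, hk, e⟩ := heig' y hy
          conv_lhs => rw [← hav, ← hconj, e, hconj, hav, hφC k hk, ← e]
        hφx := fun x => QuotientGroup.eq.1 (hperm (x : Q)).symm }
    refine ⟨D, hab, fun x hx => ?_, fun x => D.oddPart_apply hab x, ?_⟩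
    · rcases hx with hx | hx
      · exact D.coef_of_mem ((QuotientGroup.eq_one_iff x).1 hx)
      by_cases h1 : (x : Q) = 1
      · exact D.coef_of_mem ((QuotientGroup.eq_one_iff x).1 h1)
      have h2 : D.coef (x : Q).out = 1 := by
        rw [D.coef_eq_one_iff]
        have h3 := hc (x : Q)
        rw [hperm] at h3
        simp only [F, if_neg h1, if_pos hx] at h3
        rw [hconj] at h3
        change (x : Q).out • v₀ = conj a (x : Q).out • a • v₀ at h3
        rw [hav] at h3
        exact h3.symm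
      have hu : (x : Q).out⁻¹ * x ∈ U := QuotientGroup.eq.1 (QuotientGroup.out_eq' (x : Q))
      have h4 := D.coef_mul_of_mem (x : Q).out hu hab
      rw [mul_inv_cancel_left] at h4
      rw [h4, h2]
    · by_contra hall
      push Not at hall
      have hid := D.eq_self_of_coef_eq_one hall
      refine ha1 ?_
      have hcen : a ∈ Subgroup.centralizer (N : Set A) := Subgroup.mem_centralizer_iff.2 fun g hg => by
        have h1 : ((conj a ⟨g, hg⟩ : N) : A) = g := congrArg Subtype.val (hid ⟨g, hg⟩)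
        rw [show ((conj a ⟨g, hg⟩ : N) : A) = a * g * a⁻¹ from MulAut.conjNormal_apply a _,
          mul_inv_eq_iff_eq_mul] at h1
        exact h1.symm
      have hcC : (⟨a, hCN hcen⟩ : N) ∈ Subgroup.center N := Subgroup.mem_center_iff.2 fun g =>
        Subtype.ext (Subgroup.mem_centralizer_iff.1 hcen g g.2)
      exact congrArg Subtype.val (hC _ hcC v₀ hv₀ hav)
  by_contra hnone
  push Not at hnone
  have hreg : ∀ S : Set Q, (S = S₁ ∨ S = S₂) → ∀ a : H, (∀ q ∈ P, a • q ∈ S ↔ q ∈ S) →
      ∀ q ∈ P, a • q = q := by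
    intro S hS a ha q hq
    refine congrArg Subtype.val (hB' a (fun r => ?_) ⟨q, hq⟩)
    have hr : (r : Q) ∈ P := r.2
    have har : a • (r : Q) ∈ P := (hP1 a _).2 hr
    have h1 := ha r hr
    have e : ∀ t : T, (t : Q) ∈ Subtype.val '' B' ↔ t ∈ B' := fun t => Subtype.val_injective.mem_set_image
    have e1 := e (a • r)
    rw [SubMulAction.val_smul] at e1
    rcases hS with rfl | rfl
    · simp only [S₁, Set.mem_ofPred_eq, not_true_eq_false, false_or, hr, har, e, e1] at h1
      exact h1
    · simp only [S₂, Set.mem_ofPred_eq, not_true_eq_false, false_or, hr, har, e, e1] at h1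
      exact not_iff_not.1 h1
  obtain ⟨a₁, hv₁, hw₁, hne₁⟩ := hnone v₀ (W S₁)
  obtain ⟨a₂, hv₂, hw₂, hne₂⟩ := hnone v₀ (W S₂)
  obtain ⟨D₁, hab₁, hc₁, hd₁, x₁, hx₁⟩ :=
    key S₁ (fun q hq => Or.inl hq) (hreg S₁ (Or.inl rfl)) a₁ hv₁ hw₁ hne₁
  obtain ⟨D₂, hab₂, hc₂, hd₂, x₂, hx₂⟩ :=
    key S₂ (fun q hq => Or.inl hq) (hreg S₂ (Or.inr rfl)) a₂ hv₂ hw₂ hne₂
  have hker : ∀ x : N, x ∈ (D₁.oddPart hab₁).ker ∨ x ∈ (D₂.oddPart hab₂).ker := by
    intro x
    by_cases h1 : (x : Q) = 1
    · left
      rw [MonoidHom.mem_ker, hd₁, hc₁ x (Or.inl h1), hc₁ x⁻¹ (Or.inl (by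
        rw [QuotientGroup.mk_inv, h1, inv_one])), inv_one, mul_one]
    have main : ∀ y : N, (y : Q) ∈ P → y ∈ (D₁.oddPart hab₁).ker ∨ y ∈ (D₂.oddPart hab₂).ker := fun y hy => by
      have hyi : ((y⁻¹ : N) : Q) ∉ P := by rw [QuotientGroup.mk_inv]; exact hP2 _ hy
      by_cases hb : (y : Q) ∈ Subtype.val '' B'
      · left
        rw [MonoidHom.mem_ker, hd₁, hc₁ y (Or.inr (Or.inr hb)), hc₁ y⁻¹ (Or.inr (Or.inl hyi)), inv_one, mul_one]
      · right
        rw [MonoidHom.mem_ker, hd₂, hc₂ y (Or.inr (Or.inr hb)), hc₂ y⁻¹ (Or.inr (Or.inl hyi)), inv_one, mul_one]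
    by_cases hx : (x : Q) ∈ P
    · exact main x hx
    · have := main x⁻¹ (by rw [QuotientGroup.mk_inv]; exact hP3 _ (fun h => h1 (hfix _ h)) hx)
      simpa using this
  have hfin : ∀ (S : Set Q) (D : QuadData N V) (hab' : IsMulCommutative D.U), (∀ q, q ∉ P → q ∈ S) →
      (∀ x : N, (x : Q) = 1 ∨ (x : Q) ∈ S → D.coef x = 1) →
      (D.oddPart hab').ker = ⊤ → ∀ x, D.coef x = 1 := by
    intro S D hab' hS hc htop x
    by_cases hx : (x : Q) ∈ P
    · have h1 : D.oddPart hab' x = 1 := by rw [← MonoidHom.mem_ker, htop]; exact Subgroup.mem_top x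
      rw [D.oddPart_apply, hc x⁻¹ (Or.inr (hS _ (by rw [QuotientGroup.mk_inv]; exact hP2 _ hx))), inv_one,
        mul_one] at h1
      exact h1
    · exact hc x (Or.inr (hS _ hx))
  rcases mem_or_mem_imp_eq_top hker with h | h
  · exact hx₁ (hfin S₁ D₁ hab₁ (fun q hq => Or.inl hq) hc₁ h x₁)
  · exact hx₂ (hfin S₂ D₂ hab₂ (fun q hq => Or.inl hq) hc₂ h x₂)

end Cfsg.Lib.OddBase
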